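import Groth.Agent.AdeqFound.Exact

/-!
# Vanishing of the first Cech cohomology of adequate functors
-/

set_option autoImplicit false

universe u w

open CategoryTheory Limits TensorProduct Opposite

namespace Groth.Agent.AdeqFound

variable {A : Type u} [CommRing A] {J : Type u} [Fintype J] (A' : J → Type u) [∀ j, CommRing (A' j)]
  [∀ j, Algebra A (A' j)]

/-- Left inclusion. -/
noncomputable abbrev inL (j k : J) : A' j →ₐ[A] A' j ⊗[A] A' k := Algebra.TensorProduct.includeLeft

/-- Right inclusion. -/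
noncomputable abbrev inR (j k : J) : A' k →ₐ[A] A' j ⊗[A] A' k := Algebra.TensorProduct.includeRight

/-- The three faces. -/
noncomputable abbrev face0 (i j k : J) : A' j ⊗[A] A' k →ₐ[A] A' i ⊗[A] (A' j ⊗[A] A' k) :=
  Algebra.TensorProduct.includeRight

/-- The three faces. -/
noncomputable abbrev face1 (i j k : J) : A' i ⊗[A] A' k →ₐ[A] A' i ⊗[A] (A' j ⊗[A] A' k) :=
  Algebra.TensorProduct.map (AlgHom.id A (A' i)) (inR (A := A) A' j k)

/-- The three faces. -/
noncomputable abbrev face2 (i j k : J) : A' i ⊗[A] A' j →ₐ[A] A' i ⊗[A] (A' j ⊗[A] A' k) :=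
  Algebra.TensorProduct.map (AlgHom.id A (A' i)) (inL (A := A) A' j k)

set_option maxHeartbeats 4000000 in
theorem cech_one_aux [DecidableEq J] {T : Type u} [CommRing T] [Algebra A T] [Module.FaithfullyFlat A T]
    (p : ∀ j, T →ₐ[A] A' j) (s : ∀ j, A' j →ₗ[A] T) (hid : ∑ j, s j ∘ₗ (p j).toLinearMap = LinearMap.id)
    (hps : ∀ i j, (p j).toLinearMap ∘ₗ s i = if h : i = j then h ▸ LinearMap.id else 0)
    {M : Type w} [AddCommGroup M] [Module A M] (c : ∀ j k, (A' j ⊗[A] A' k) ⊗[A] M)
    (hc : ∀ i j k, (face0 (A := A) A' i j k).toLinearMap.rTensor M (c j k) =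
      (face1 (A := A) A' i j k).toLinearMap.rTensor M (c i k) - (face2 (A := A) A' i j k).toLinearMap.rTensor M (c i j)) :
    ∃ z : ∀ j, A' j ⊗[A] M, ∀ j k,
      (inL (A := A) A' j k).toLinearMap.rTensor M (z j) - (inR (A := A) A' j k).toLinearMap.rTensor M (z k) = c j k := by
  let c₀ : (T ⊗[A] T) ⊗[A] M := ∑ i, ∑ l, (TensorProduct.map (s i) (s l)).rTensor M (c i l)
  have hc₀ : ∀ j k, (TensorProduct.map (p j).toLinearMap (p k).toLinearMap).rTensor M c₀ = c j k := fun j k => by
    rw [map_sum, Finset.sum_eq_single j, map_sum, Finset.sum_eq_single k]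
    · rw [← LinearMap.rTensor_comp_apply, ← TensorProduct.map_comp, hps, hps, dif_pos rfl, dif_pos rfl,
        TensorProduct.map_id, LinearMap.rTensor_id, LinearMap.id_apply]
    · intro l _ hl
      rw [← LinearMap.rTensor_comp_apply, ← TensorProduct.map_comp, hps l k, dif_neg hl, TensorProduct.map_zero_right,
        LinearMap.rTensor_zero, LinearMap.zero_apply]
    · exact fun h => absurd (Finset.mem_univ k) h
    · intro i _ hi
      rw [map_sum]
      refine Finset.sum_eq_zero fun l _ => ?_
      rw [← LinearMap.rTensor_comp_apply, ← TensorProduct.map_comp, hps i j, dif_neg hi, TensorProduct.map_zero_left,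
        LinearMap.rTensor_zero, LinearMap.zero_apply]
    · exact fun h => absurd (Finset.mem_univ j) h
  let d : T ⊗[A] M →ₗ[A] (T ⊗[A] T) ⊗[A] M :=
    (Algebra.TensorProduct.includeLeft : T →ₐ[A] T ⊗[A] T).toLinearMap.rTensor M -
      (Algebra.TensorProduct.includeRight : T →ₐ[A] T ⊗[A] T).toLinearMap.rTensor M
  clear_value c₀
  have hkey : (1 : T) ⊗ₜ[A] c₀ + d.lTensor T (TensorProduct.assoc A T T M c₀) = 0 := by
    refine decompose A' (fun j => (p j).toLinearMap) s hid _ fun i => ?_
    have hsum : (∑ q : J × J, (TensorProduct.map (s q.1) (s q.2)).rTensor M ∘ₗ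
        (TensorProduct.map (p q.1).toLinearMap (p q.2).toLinearMap).rTensor M) = LinearMap.id := by
      refine TensorProduct.ext_threefold fun t t' m => ?_
      simp only [LinearMap.sum_apply, LinearMap.comp_apply, LinearMap.rTensor_tmul, TensorProduct.map_tmul, LinearMap.id_apply]
      rw [Fintype.sum_prod_type]
      dsimp only
      have hgen : ∀ (f g : J → T), (∑ a, ∑ b, (f a ⊗ₜ[A] g b) ⊗ₜ[A] m) = ((∑ a, f a) ⊗ₜ[A] (∑ b, g b)) ⊗ₜ[A] m :=
        fun f g => by simp only [TensorProduct.sum_tmul, TensorProduct.tmul_sum]; rw [Finset.sum_comm]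
      refine (hgen (fun a => s a ((p a).toLinearMap t)) (fun b => s b ((p b).toLinearMap t'))).trans ?_
      have ht := LinearMap.congr_fun hid t
      have ht' := LinearMap.congr_fun hid t'
      simp only [LinearMap.sum_apply, LinearMap.comp_apply, LinearMap.id_apply] at ht ht'
      rw [ht, ht']
    generalize hw : (p i).toLinearMap.rTensor ((T ⊗[A] T) ⊗[A] M)
      ((1 : T) ⊗ₜ[A] c₀ + d.lTensor T (TensorProduct.assoc A T T M c₀)) = w
    have hwi : ∀ q : J × J, ((TensorProduct.map (p q.1).toLinearMap (p q.2).toLinearMap).rTensor M).lTensor (A' i) w = 0 := by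
      intro q
      obtain ⟨j, k⟩ := q
      subst hw
      refine (TensorProduct.assoc A (A' i) (A' j ⊗[A] A' k) M).symm.injective ?_
      rw [map_zero]
      have e0 : ∀ z : (T ⊗[A] T) ⊗[A] M, (TensorProduct.assoc A (A' i) (A' j ⊗[A] A' k) M).symm
          (((TensorProduct.map (p j).toLinearMap (p k).toLinearMap).rTensor M).lTensor (A' i)
            ((p i).toLinearMap.rTensor ((T ⊗[A] T) ⊗[A] M) ((1 : T) ⊗ₜ[A] z + d.lTensor T (TensorProduct.assoc A T T M z)))) =
          (face0 (A := A) A' i j k).toLinearMap.rTensor M ((TensorProduct.map (p j).toLinearMap (p k).toLinearMap).rTensor M z) +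
            ((face2 (A := A) A' i j k).toLinearMap.rTensor M ((TensorProduct.map (p i).toLinearMap (p j).toLinearMap).rTensor M z) -
              (face1 (A := A) A' i j k).toLinearMap.rTensor M ((TensorProduct.map (p i).toLinearMap (p k).toLinearMap).rTensor M z)) := by
        intro z
        induction z using TensorProduct.induction_on with
        | zero => simp
        | add a b ha hb =>
          simp only [TensorProduct.tmul_add, map_add] at ha hb ⊢; rw [add_add_add_comm, ha, hb]; abel
        | tmul tt m =>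
          induction tt using TensorProduct.induction_on with
          | zero => simp
          | add a b ha hb =>
            simp only [TensorProduct.add_tmul, TensorProduct.tmul_add, map_add] at ha hb ⊢; rw [add_add_add_comm, ha, hb]; abel
          | tmul t t' =>
            simp only [TensorProduct.assoc_tmul, LinearMap.lTensor_tmul, map_add, LinearMap.rTensor_tmul,
              TensorProduct.map_tmul, d, LinearMap.sub_apply, map_sub, TensorProduct.tmul_sub,
              TensorProduct.assoc_symm_tmul, face0, face1, face2, inL, inR, AlgHom.toLinearMap_apply,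
              Algebra.TensorProduct.includeLeft_apply, Algebra.TensorProduct.includeRight_apply,
              Algebra.TensorProduct.map_tmul, AlgHom.id_apply, map_one]
      rw [e0, hc₀, hc₀, hc₀, hc]
      abel
    have hw2 := congrArg (fun f : (T ⊗[A] T) ⊗[A] M →ₗ[A] (T ⊗[A] T) ⊗[A] M => f.lTensor (A' i) w) hsum
    rw [LinearMap.lTensor_id, LinearMap.id_apply] at hw2
    rw [← hw2]
    let e : ((T ⊗[A] T) ⊗[A] M →ₗ[A] (T ⊗[A] T) ⊗[A] M) →+ A' i ⊗[A] ((T ⊗[A] T) ⊗[A] M) :=
      AddMonoidHom.mk' (fun f => f.lTensor (A' i) w) fun f g => by rw [LinearMap.lTensor_add]; rfl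
    show e _ = 0
    rw [map_sum]
    exact Finset.sum_eq_zero fun q _ => by
      show (_ ∘ₗ _).lTensor (A' i) w = 0
      rw [LinearMap.lTensor_comp, LinearMap.comp_apply, hwi, map_zero]
  obtain ⟨zT, hz⟩ := mem_range_of_one_tmul_mem (T := T) (M := T ⊗[A] M) (N := (T ⊗[A] T) ⊗[A] M) d c₀
    ⟨-(TensorProduct.assoc A T T M c₀), by rw [map_neg]; exact (eq_neg_of_add_eq_zero_left hkey).symm⟩
  refine ⟨fun j => (p j).toLinearMap.rTensor M zT, fun j k => ?_⟩
  rw [← hc₀ j k, ← hz]
  clear hz
  induction zT using TensorProduct.induction_on with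
  | zero => simp
  | add a b ha hb => simp only [map_add] at ha hb ⊢; rw [add_sub_add_comm, ha, hb]
  | tmul t m =>
    simp [d, map_one]

variable [Module.FaithfullyFlat A (∀ j, A' j)]

theorem cech_one {M : Type w} [AddCommGroup M] [Module A M] (c : ∀ j k, (A' j ⊗[A] A' k) ⊗[A] M)
    (hc : ∀ i j k, (face0 (A := A) A' i j k).toLinearMap.rTensor M (c j k) =
      (face1 (A := A) A' i j k).toLinearMap.rTensor M (c i k) - (face2 (A := A) A' i j k).toLinearMap.rTensor M (c i j)) :
    ∃ z : ∀ j, A' j ⊗[A] M, ∀ j k,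
      (inL (A := A) A' j k).toLinearMap.rTensor M (z j) - (inR (A := A) A' j k).toLinearMap.rTensor M (z k) = c j k := by
  classical
  refine cech_one_aux A' (fun j => Pi.evalAlgHom A A' j) (fun j => LinearMap.single A A' j)
    (LinearMap.ext fun t => ?_) (fun i j => ?_) c hc
  · simp only [LinearMap.sum_apply, LinearMap.comp_apply, LinearMap.id_apply]
    exact Finset.univ_sum_single t
  · split_ifs with h
    · subst h; exact LinearMap.ext fun t => Pi.single_eq_same i t
    · exact LinearMap.ext fun t => Pi.single_eq_of_ne (Ne.symm h) t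

variable {F : Adeq.MVF A}

/-- An algebra map as a map of test algebras. -/
noncomputable abbrev alg {B C : Type u} [CommRing B] [Algebra A B] [CommRing C] [Algebra A C] (f : B →ₐ[A] C) :
    Adeq.algOf A B ⟶ Adeq.algOf A C := CommAlgCat.ofHom f

set_option maxHeartbeats 4000000 in
theorem Good.cech_one (hF : Good F) (c : ∀ j k, F.obj (Adeq.pt (Adeq.algOf A (A' j ⊗[A] A' k))))
    (hc : ∀ i j k, mp F (alg (face0 (A := A) A' i j k)) (c j k) =
      mp F (alg (face1 (A := A) A' i j k)) (c i k) - mp F (alg (face2 (A := A) A' i j k)) (c i j)) :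
    ∃ z : ∀ j, F.obj (Adeq.pt (Adeq.algOf A (A' j))), ∀ j k,
      mp F (alg (inL (A := A) A' j k)) (z j) - mp F (alg (inR (A := A) A' j k)) (z k) = c j k := by
  obtain ⟨M, N, φ, ι, hk⟩ := adequate_iff.1 (good_iff.1 hF)
  let F' := cokernel ι
  have hF' : Good F' := good_cokernel hF (good_underline M) ι
  obtain ⟨z, hz⟩ := Groth.Agent.AdeqFound.cech_one A'
    (fun j k => ev (Adeq.algOf A (A' j ⊗[A] A' k)) (ap ι (Adeq.algOf A (A' j ⊗[A] A' k)) (c j k))) fun i j k => by
      have h := congrArg (fun w => ev (Adeq.algOf A (A' i ⊗[A] (A' j ⊗[A] A' k)))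
        (ap ι (Adeq.algOf A (A' i ⊗[A] (A' j ⊗[A] A' k))) w)) (hc i j k)
      rw [map_sub, map_sub, nat_ap, nat_ap, nat_ap, ev_mp, ev_mp, ev_mp] at h
      exact h
  let zv : ∀ j, (U M).obj (Adeq.pt (Adeq.algOf A (A' j))) := fun j => (ev (Adeq.algOf A (A' j))).symm (z j)
  have hzv : ∀ j k, mp (U M) (alg (inL (A := A) A' j k)) (zv j) - mp (U M) (alg (inR (A := A) A' j k)) (zv k) =
      ap ι (Adeq.algOf A (A' j ⊗[A] A' k)) (c j k) := fun j k => (ev _).injective (by
    rw [map_sub, ev_mp, ev_mp, AddEquiv.apply_symm_apply, AddEquiv.apply_symm_apply]; exact hz j k)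
  obtain ⟨q, hq⟩ := hF'.family_glue A' (fun j => ap (cokernel.π ι) (Adeq.algOf A (A' j)) (zv j)) fun j k => by
    rw [← nat_ap, ← nat_ap, ← sub_eq_zero, ← map_sub]
    exact (ap_cokernel_eq_zero ι _ _).2 ⟨c j k, (hzv j k).symm⟩
  obtain ⟨m, rfl⟩ := ap_surj_of_epi (cokernel.π ι) (Adeq.algOf A A) q
  have hw : ∀ j, ∃ w, ap ι (Adeq.algOf A (A' j)) w = zv j - mp (U M) (ofBase (A' j)) m := fun j =>
    (ap_cokernel_eq_zero ι _ _).1 (by rw [map_sub, nat_ap, hq, sub_self])
  choose w hw using hw
  refine ⟨w, fun j k => (hk _).1 ?_⟩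
  rw [map_sub, nat_ap, nat_ap, hw, hw, map_sub, map_sub, ← hzv j k, mp_comp, mp_comp]
  have e : ofBase (A' j) ≫ alg (inL (A := A) A' j k) = ofBase (A' k) ≫ alg (inR (A := A) A' j k) :=
    CommAlgCat.hom_ext (Subsingleton.elim _ _)
  rw [e]
  abel

end Groth.Agent.AdeqFound
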