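import Groth.Agent.AdeqFound.Ext
import Mathlib.RingTheory.RingHom.Flat
import Mathlib.Algebra.Polynomial.Laurent
import Mathlib.RingTheory.Flat.Basic

/-!
# Flat base change for adequate functors
-/

set_option autoImplicit false

universe u

open CategoryTheory Limits TensorProduct Opposite

namespace Groth.Agent.AdeqFound

variable {A : Type u} [CommRing A] {F G : Adeq.MVF A} {B C : Adeq.Alg A}

/-- The base change map on elements. -/
noncomputable def bcl [Algebra (B : Type u) (C : Type u)] (F : Adeq.MVF A) (f : B ⟶ C)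
    (h : ∀ b, algebraMap (B : Type u) (C : Type u) b = f.hom b) :
    (C : Type u) ⊗[(B : Type u)] (F.obj (Adeq.pt B)) →+ F.obj (Adeq.pt C) :=
  TensorProduct.liftAddHom
    (AddMonoidHom.mk' (fun c : (C : Type u) => (DistribSMul.toAddMonoidHom (F.obj (Adeq.pt C)) c).comp (mp F f))
      (fun c c' => AddMonoidHom.ext fun x => add_smul c c' _))
    (fun b c x => by
      show (b • c) • mp F f x = c • mp F f (b • x)
      rw [mp_smul, smul_smul, Algebra.smul_def, h, mul_comm])

@[simp] theorem bcl_tmul [Algebra (B : Type u) (C : Type u)] (f : B ⟶ C)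
    (h : ∀ b, algebraMap (B : Type u) (C : Type u) b = f.hom b) (c : (C : Type u)) (x : F.obj (Adeq.pt B)) :
    bcl F f h (c ⊗ₜ x) = c • mp F f x := rfl

theorem bcl_nat [Algebra (B : Type u) (C : Type u)] (φ : F ⟶ G) (f : B ⟶ C)
    (h : ∀ b, algebraMap (B : Type u) (C : Type u) b = f.hom b) (z : (C : Type u) ⊗[(B : Type u)] (F.obj (Adeq.pt B))) :
    ap φ C (bcl F f h z) = bcl G f h ((ap φ B).lTensor (C : Type u) z) := by
  induction z using TensorProduct.induction_on with
  | zero => simp
  | tmul c x => rw [bcl_tmul, map_smul, nat_ap, LinearMap.lTensor_tmul, bcl_tmul]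
  | add x y hx hy => rw [map_add, map_add, hx, hy, map_add, map_add]

theorem isIso_bc_iff (F : Adeq.MVF A) (f : B ⟶ C) [Algebra (B : Type u) (C : Type u)]
    (h : ∀ b, algebraMap (B : Type u) (C : Type u) b = f.hom b) :
    IsIso (F.bc f) ↔ Function.Bijective (bcl F f h) := by
  rename_i inst
  have e : inst = f.hom.toRingHom.toAlgebra := Algebra.algebra_ext _ _ fun b => h b
  subst e
  letI : Algebra (B : Type u) (C : Type u) := f.hom.toRingHom.toAlgebra
  rw [ConcreteCategory.isIso_iff_bijective]
  refine Iff.of_eq (congrArg Function.Bijective (funext fun z => ?_))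
  induction z using TensorProduct.induction_on with
  | zero => exact (map_zero (F.bc f).hom).trans (map_zero (bcl F f h)).symm
  | tmul c x => rfl
  | add x y hx hy => exact (map_add (F.bc f).hom x y).trans ((congrArg₂ (· + ·) hx hy).trans (map_add _ x y).symm)

theorem bijective_bcl_underline [Algebra (B : Type u) (C : Type u)] (M : ModuleCat.{u + 1} A) (f : B ⟶ C)
    (h : ∀ b, algebraMap (B : Type u) (C : Type u) b = f.hom b) : Function.Bijective (bcl (U M) f h) := by
  haveI : IsScalarTower A (B : Type u) (C : Type u) :=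
    IsScalarTower.of_algebraMap_eq fun a => by rw [h]; exact (f.hom.commutes a).symm
  let e := AlgebraTensorModule.cancelBaseChange A (B : Type u) (B : Type u) (C : Type u) M
  let l : (C : Type u) ⊗[(B : Type u)] ((U M).obj (Adeq.pt B)) ≃+ (C : Type u) ⊗[(B : Type u)] ((B : Type u) ⊗[A] M) :=
    { toFun := fun x => x, invFun := fun x => x, left_inv := fun _ => rfl, right_inv := fun _ => rfl,
      map_add' := fun _ _ => rfl }
  have he : ∀ z, ev C (bcl (U M) f h z) = e (l z) := by
    intro z
    induction z using TensorProduct.induction_on with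
    | zero => rw [map_zero, map_zero, map_zero, map_zero]
    | tmul c x =>
      obtain ⟨x, rfl⟩ := (ev B).symm.surjective x
      induction x using TensorProduct.induction_on with
      | zero => rw [map_zero, TensorProduct.tmul_zero, map_zero, map_zero, map_zero, map_zero]
      | tmul b m =>
        rw [bcl_tmul, ev_smul, ev_mp, AddEquiv.apply_symm_apply]
        show (c * f.hom b) ⊗ₜ[A] m = e (c ⊗ₜ (b ⊗ₜ m))
        rw [AlgebraTensorModule.cancelBaseChange_tmul, Algebra.smul_def, h, mul_comm]
      | add x y hx hy => rw [map_add, TensorProduct.tmul_add, map_add, map_add, hx, hy, map_add, map_add]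
    | add x y hx hy => rw [map_add, map_add, hx, hy, map_add, map_add]
  exact (Function.Bijective.of_comp_iff' (ev C).bijective _).1
    (by rw [show ⇑(ev C) ∘ ⇑(bcl (U M) f h) = ⇑e ∘ ⇑l from funext he]; exact e.bijective.comp l.bijective)

theorem bijective_bcl_of_flat [Algebra (B : Type u) (C : Type u)] [Module.Flat (B : Type u) (C : Type u)]
    (hF : Good F) (f : B ⟶ C) (h : ∀ b, algebraMap (B : Type u) (C : Type u) b = f.hom b) :
    Function.Bijective (bcl F f h) := by
  obtain ⟨M, N, φ, ι, hk⟩ := adequate_iff.1 (good_iff.1 hF)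
  have hM := bijective_bcl_underline M f h
  have hex : Function.Exact (ap ι B) (ap ((Adeq.underline A).map φ) B) := fun x => (hk B).2 x
  constructor
  · refine (injective_iff_map_eq_zero _).2 fun z hz => ?_
    refine Module.Flat.lTensor_preserves_injective_linearMap (ap ι B) (hk B).1 ?_
    rw [map_zero]
    refine hM.1 ?_
    rw [← bcl_nat, hz, map_zero, map_zero]
  · intro y
    obtain ⟨w, hw⟩ := hM.2 (ap ι C y)
    obtain ⟨z, hz⟩ := (Module.Flat.lTensor_exact (C : Type u) hex w).1 ((bijective_bcl_underline N f h).1 (by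
      rw [← bcl_nat, hw, map_zero]; exact ((hk C).2 _).2 ⟨y, rfl⟩))
    exact ⟨z, (hk C).1 (by rw [bcl_nat, hz, hw])⟩

section Laurent

open LaurentPolynomial

/-- Laurent polynomials as a test algebra. -/
noncomputable abbrev La (B : Adeq.Alg A) : Adeq.Alg A := Adeq.algOf A (LaurentPolynomial (B : Type u))

theorem trunc_smul (b : (B : Type u)) (f : LaurentPolynomial (B : Type u)) :
    trunc (b • f) = b • trunc f := by
  induction f using LaurentPolynomial.induction_on' with
  | add p q hp hq => rw [smul_add, map_add, map_add, smul_add, hp, hq]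
  | C_mul_T n a =>
    rw [Algebra.smul_def, ← LaurentPolynomial.C_eq_algebraMap, ← mul_assoc, ← map_mul, trunc_C_mul_T, trunc_C_mul_T]
    split_ifs <;> simp [Polynomial.smul_monomial]

theorem linear_of_units (φ : ∀ B : Adeq.Alg A, F.obj (Adeq.pt B) → G.obj (Adeq.pt B))
    (hnat : ∀ ⦃B B' : Adeq.Alg A⦄ (f : B ⟶ B') (x : F.obj (Adeq.pt B)), φ B' (mp F f x) = mp G f (φ B x))
    (hunit : ∀ (B : Adeq.Alg A) (v : (B : Type u)ˣ) (x : F.obj (Adeq.pt B)), φ B ((v : B) • x) = (v : B) • φ B x)
    (hG : ∀ ⦃B B' : Adeq.Alg A⦄ (f : B ⟶ B'), f.hom.toRingHom.Flat → IsIso (G.bc f))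
    (B : Adeq.Alg A) (b : B) (x : F.obj (Adeq.pt B)) : φ B (b • x) = b • φ B x := by
  let X : (Po B : Type u) := (Polynomial.X : Polynomial (B : Type u))
  let j : Po B ⟶ La B := CommAlgCat.ofHom ((Polynomial.toLaurentAlg (R := (B : Type u))).restrictScalars A)
  let i : B ⟶ La B := CommAlgCat.ofHom (IsScalarTower.toAlgHom A (B : Type u) _)
  have hij : inc B ≫ j = i := CommAlgCat.hom_ext (AlgHom.ext fun c => Polynomial.toLaurentAlg.commutes c)
  obtain ⟨v, hv⟩ : ∃ v : (La B : Type u)ˣ, (v : (La B : Type u)) = j.hom X :=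
    ⟨(LaurentPolynomial.isUnit_T (R := (B : Type u)) 1).unit, (Polynomial.toLaurent_X).symm⟩
  have key : φ (Po B) (X • mp F (inc B) x) = X • φ (Po B) (mp F (inc B) x) := by
    rw [← sub_eq_zero]
    haveI : Module.Flat (B : Type u) (La B : Type u) :=
      haveI := Module.Free.of_basis (AddMonoidAlgebra.basis ℤ (B : Type u))
      Module.Flat.of_free
    have hP := (isIso_bc_iff G (inc B) (fun _ => rfl)).1 (hG (inc B) (by
      show (algebraMap (B : Type u) (Polynomial (B : Type u))).Flat
      rw [RingHom.flat_algebraMap_iff]; infer_instance))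
    have hL := (isIso_bc_iff G i (fun _ => rfl)).1 (hG i (by
      show (algebraMap (B : Type u) (LaurentPolynomial (B : Type u))).Flat
      rw [RingHom.flat_algebraMap_iff]; infer_instance))
    let jl : (Po B : Type u) →ₗ[(B : Type u)] (La B : Type u) := (Polynomial.toLaurentAlg (R := (B : Type u))).toLinearMap
    let tl : (La B : Type u) →ₗ[(B : Type u)] (Po B : Type u) :=
      { toFun := trunc, map_add' := map_add trunc, map_smul' := trunc_smul }
    have hinj : Function.Injective (jl.rTensor (G.obj (Adeq.pt B))) := by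
      refine Function.LeftInverse.injective (g := tl.rTensor _) fun z => ?_
      rw [← LinearMap.rTensor_comp_apply,
        show tl ∘ₗ jl = LinearMap.id from LinearMap.ext fun p => Polynomial.trunc_toLaurent p,
        LinearMap.rTensor_id, LinearMap.id_apply]
    have hcomm : ∀ z, mp G j (bcl G (inc B) (fun _ => rfl) z) = bcl G i (fun _ => rfl) (jl.rTensor _ z) := by
      intro z
      induction z using TensorProduct.induction_on with
      | zero => simp
      | tmul c y => rw [bcl_tmul, mp_smul, mp_comp, hij]; rfl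
      | add p q hp hq => rw [map_add, map_add, hp, hq, map_add, map_add]
    obtain ⟨t, ht⟩ := hP.2 (φ (Po B) (X • mp F (inc B) x) - X • φ (Po B) (mp F (inc B) x))
    rw [← ht]
    refine (congrArg _ (hinj (hL.1 ?_))).trans (map_zero _)
    rw [← hcomm, ht, map_zero, map_zero, map_sub, mp_smul, ← hnat, mp_smul, ← hnat, ← hv, hunit, sub_self]
  have h1 := congrArg (mp G (evP (C := B) b)) key
  rw [← hnat, mp_smul, mp_smul, mp_comp, inc_evP, mp_id, ← hnat, mp_comp, inc_evP, mp_id] at h1
  have eX : (evP (C := B) b).hom X = (b : (B : Type u)) := evP_X b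
  rwa [eX] at h1

end Laurent

end Groth.Agent.AdeqFound
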