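import Groth.Agent.AdeqFound.Closure

/-!
# Finite limits of good functors
-/

set_option autoImplicit false

universe u

open CategoryTheory Limits TensorProduct Opposite

namespace Groth.Agent.AdeqFound

variable {A : Type u} [CommRing A] {F : Adeq.MVF A}

theorem ap_finset_sum {G H : Adeq.MVF A} {I : Type (u + 1)} (s : Finset I) (f : I → (G ⟶ H)) (B : Adeq.Alg A)
    (x : G.obj (Adeq.pt B)) : ap (∑ i ∈ s, f i) B x = ∑ i ∈ s, ap (f i) B x := by
  let e : (G ⟶ H) →+ H.obj (Adeq.pt B) := AddMonoidHom.mk' (fun φ => ap φ B x) (fun _ _ => rfl)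
  exact map_sum e f s

/-- A finite equalizer of good functors is good. -/
theorem good_of_joint {J K : Type (u + 1)} [Fintype J] [Fintype K] (P : J → Adeq.MVF A) (hP : ∀ j, Good (P j))
    (W : K → Adeq.MVF A) (hW : ∀ k, Good (W k)) (s t : K → J) (a : ∀ k, P (s k) ⟶ W k) (b : ∀ k, P (t k) ⟶ W k)
    (u' : ∀ j, F ⟶ P j) (hcomm : ∀ k, u' (s k) ≫ a k = u' (t k) ≫ b k)
    (h : ∀ B, (∀ x, (∀ j, ap (u' j) B x = 0) → x = 0) ∧
      ∀ y : ∀ j, (P j).obj (Adeq.pt B), (∀ k, ap (a k) B (y (s k)) = ap (b k) B (y (t k))) →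
        ∃ x, ∀ j, ap (u' j) B x = y j) : Good F := by
  classical
  let d : ∀ k, (∐ P) ⟶ W k := fun k => sproj P (s k) ≫ a k - sproj P (t k) ≫ b k
  let δ : (∐ P) ⟶ ∐ W := ∑ k, d k ≫ Sigma.ι W k
  let η : F ⟶ ∐ P := ∑ j, u' j ≫ Sigma.ι P j
  have hη : ∀ B x j, ap (sproj P j) B (ap η B x) = ap (u' j) B x := fun B x j => by
    rw [ap_finset_sum]
    simp only [ap_comp]
    rw [sproj_sum P Finset.univ B (fun i => ap (u' i) B x), if_pos (Finset.mem_univ j)]
  have hδ : ∀ B y, ap δ B y = 0 ↔ ∀ k, ap (d k) B y = 0 := fun B y => by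
    refine ⟨fun h' k => ?_, fun h' => ?_⟩
    · have h1 := congrArg (ap (sproj W k) B) h'
      rw [ap_finset_sum, map_zero] at h1
      simp only [ap_comp] at h1
      rwa [sproj_sum W Finset.univ B (fun i => ap (d i) B y), if_pos (Finset.mem_univ k)] at h1
    · rw [ap_finset_sum]
      exact Finset.sum_eq_zero fun k _ => by rw [ap_comp, h', map_zero]
  refine good_of_kernel (good_sigma P hP) η δ (fun C => ((good_sigma W hW).poly C).1) (good_sigma W hW).rel
    fun B => ⟨(injective_iff_map_eq_zero _).2 fun x hx => (h B).1 x fun j => ?_, fun y => ?_⟩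
  · have h1 := hη B x j
    rw [hx, map_zero] at h1
    exact h1.symm
  have hd : ∀ k, ap (d k) B y = 0 ↔ ap (a k) B (ap (sproj P (s k)) B y) = ap (b k) B (ap (sproj P (t k)) B y) := fun k => by
    rw [show ap (d k) B y = ap (a k) B (ap (sproj P (s k)) B y) - ap (b k) B (ap (sproj P (t k)) B y) from rfl, sub_eq_zero]
  rw [hδ]
  constructor
  · intro hy
    obtain ⟨x, hx⟩ := (h B).2 (fun j => ap (sproj P j) B y) fun k => (hd k).1 (hy k)
    refine ⟨x, sub_eq_zero.1 (sigma_joint_injective P B _ fun j => ?_)⟩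
    rw [map_sub, hη, hx, sub_self]
  · rintro ⟨x, rfl⟩ k
    rw [hd, hη, hη]
    exact congrArg (fun w => ap w B x) (hcomm k)

end Groth.Agent.AdeqFound
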