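import Groth.Agent.AdeqFound.Closure
import Mathlib.RingTheory.Flat.FaithfullyFlat.Algebra
import Mathlib.LinearAlgebra.TensorProduct.Pi
import Mathlib.RingTheory.TensorProduct.Maps
import Mathlib.RingTheory.Spectrum.Prime.RingHom

/-!
# Faithfully flat descent for adequate functors
-/

set_option autoImplicit false

universe u w

open CategoryTheory Limits TensorProduct Opposite

namespace Groth.Agent.AdeqFound

variable {A : Type u} [CommRing A]

theorem mem_range_of_one_tmul_mem {T : Type u} [CommRing T] [Algebra A T] [Module.FaithfullyFlat A T]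
    {M : Type w} {N : Type w} [AddCommGroup M] [Module A M] [AddCommGroup N] [Module A N]
    (g : M →ₗ[A] N) (x : N) (h : (1 : T) ⊗ₜ[A] x ∈ LinearMap.range (g.lTensor T)) : x ∈ LinearMap.range g := by
  rw [← Submodule.Quotient.mk_eq_zero (LinearMap.range g)]
  apply Module.FaithfullyFlat.tensorProduct_mk_injective (A := A) (B := T) (N ⧸ LinearMap.range g)
  obtain ⟨z, hz⟩ := h
  have := congrArg ((LinearMap.range g).mkQ.lTensor T) hz
  rw [← LinearMap.comp_apply, ← LinearMap.lTensor_comp, LinearMap.range_mkQ_comp, LinearMap.lTensor_zero,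
    LinearMap.zero_apply] at this
  simpa using this.symm

variable {J : Type u} [Fintype J] (A' : J → Type u) [∀ j, CommRing (A' j)] [∀ j, Algebra A (A' j)]

theorem decompose [DecidableEq J] {T : Type u} [AddCommGroup T] [Module A T] {M : Type w} [AddCommGroup M] [Module A M]
    (p : ∀ j, T →ₗ[A] A' j) (s : ∀ j, A' j →ₗ[A] T) (h : ∑ j, s j ∘ₗ p j = LinearMap.id) (z : T ⊗[A] M)
    (hz : ∀ j, (p j).rTensor M z = 0) : z = 0 := by
  have h1 : (∑ j, s j ∘ₗ p j).rTensor M z = z := by rw [h, LinearMap.rTensor_id, LinearMap.id_apply]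
  rw [← h1]
  let e : (T →ₗ[A] T) →+ T ⊗[A] M := AddMonoidHom.mk' (fun f => f.rTensor M z) fun f g => by
    rw [LinearMap.rTensor_add]; rfl
  show e _ = 0
  rw [map_sum]
  exact Finset.sum_eq_zero fun j _ => by
    show (s j ∘ₗ p j).rTensor M z = 0
    rw [LinearMap.rTensor_comp_apply, hz, map_zero]

variable [Module.FaithfullyFlat A (∀ j, A' j)]

theorem family_injective {M : Type w} [AddCommGroup M] [Module A M] (x : M)
    (h : ∀ j, (1 : A' j) ⊗ₜ[A] x = 0) : x = 0 := by
  classical
  apply Module.FaithfullyFlat.tensorProduct_mk_injective (A := A) (B := ∀ j, A' j) M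
  simp only [TensorProduct.mk_apply, TensorProduct.tmul_zero]
  refine decompose A' (fun j => LinearMap.proj j) (fun j => LinearMap.single A A' j)
    (LinearMap.ext fun t => by simp [LinearMap.sum_apply, Finset.univ_sum_single]) _ fun j => ?_
  rw [LinearMap.rTensor_tmul]
  exact h j

theorem family_glue {M : Type w} [AddCommGroup M] [Module A M] (y : ∀ j, A' j ⊗[A] M)
    (hy : ∀ j k, ((Algebra.TensorProduct.includeLeft : A' j →ₐ[A] A' j ⊗[A] A' k).toLinearMap).rTensor M (y j) =
      ((Algebra.TensorProduct.includeRight : A' k →ₐ[A] A' j ⊗[A] A' k).toLinearMap).rTensor M (y k)) :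
    ∃ x : M, ∀ j, (1 : A' j) ⊗ₜ[A] x = y j := by
  classical
  let T : Type u := ∀ j, A' j
  let p : ∀ j, T →ₗ[A] A' j := fun j => LinearMap.proj j
  let s : ∀ j, A' j →ₗ[A] T := fun j => LinearMap.single A A' j
  have hid : ∑ j, s j ∘ₗ p j = LinearMap.id :=
    LinearMap.ext fun t => by
      simp only [LinearMap.sum_apply, LinearMap.comp_apply, LinearMap.id_apply]
      exact Finset.univ_sum_single t
  let x : T ⊗[A] M := ∑ j, (s j).rTensor M (y j)
  have hx : ∀ j, (p j).rTensor M x = y j := fun j => by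
    rw [map_sum, Finset.sum_eq_single j]
    · rw [← LinearMap.rTensor_comp_apply, show p j ∘ₗ s j = LinearMap.id from LinearMap.ext fun t => Pi.single_eq_same j t,
        LinearMap.rTensor_id, LinearMap.id_apply]
    · intro i _ hij
      rw [← LinearMap.rTensor_comp_apply, show p j ∘ₗ s i = 0 from LinearMap.ext fun t => Pi.single_eq_of_ne hij.symm t,
        LinearMap.rTensor_zero, LinearMap.zero_apply]
    · exact fun h => absurd (Finset.mem_univ j) h
  have hkey : (1 : T) ⊗ₜ[A] x = (TensorProduct.mk A T M 1).lTensor T x := by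
    rw [← sub_eq_zero]
    refine decompose A' p s hid _ fun j => ?_
    refine (TensorProduct.leftComm A _ _ _).injective ?_
    rw [map_zero]
    refine decompose A' p s hid _ fun k => ?_
    have e1 : ∀ (N : T ⊗[A] (T ⊗[A] M)), (p k).rTensor (A' j ⊗[A] M) (TensorProduct.leftComm A (A' j) T M
        ((p j).rTensor (T ⊗[A] M) N)) =
        TensorProduct.leftComm A (A' j) (A' k) M (TensorProduct.map (p j) ((p k).rTensor M) N) := by
      intro N
      induction N using TensorProduct.induction_on with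
      | zero => simp
      | tmul t n =>
        induction n using TensorProduct.induction_on with
        | zero => simp
        | tmul t' m => simp
        | add a b ha hb => simp only [TensorProduct.tmul_add, map_add, ha, hb]
      | add a b ha hb => simp only [map_add, ha, hb]
    rw [e1, LinearEquiv.map_eq_zero_iff, map_sub, sub_eq_zero, TensorProduct.map_tmul, hx]
    have e2 : ∀ z : T ⊗[A] M, TensorProduct.map (p j) ((p k).rTensor M) ((TensorProduct.mk A T M 1).lTensor T z) =
        (TensorProduct.mk A (A' k) M 1).lTensor (A' j) ((p j).rTensor M z) := by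
      intro z
      induction z using TensorProduct.induction_on with
      | zero => simp
      | tmul t m => rfl
      | add a b ha hb => rw [map_add, map_add, map_add, map_add, ha, hb]
    rw [e2, hx, show p j (1 : T) = 1 from rfl]
    have h1 := congrArg (TensorProduct.assoc A (A' j) (A' k) M) (hy j k).symm
    have e3 : ∀ z : A' k ⊗[A] M, TensorProduct.assoc A (A' j) (A' k) M
        (((Algebra.TensorProduct.includeRight : A' k →ₐ[A] A' j ⊗[A] A' k).toLinearMap).rTensor M z) = 1 ⊗ₜ z := by
      intro z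
      induction z using TensorProduct.induction_on with
      | zero => simp
      | tmul t m => simp
      | add a b ha hb => simp only [map_add, ha, hb, TensorProduct.tmul_add]
    have e4 : ∀ z : A' j ⊗[A] M, TensorProduct.assoc A (A' j) (A' k) M
        (((Algebra.TensorProduct.includeLeft : A' j →ₐ[A] A' j ⊗[A] A' k).toLinearMap).rTensor M z) =
          (TensorProduct.mk A (A' k) M 1).lTensor (A' j) z := by
      intro z
      induction z using TensorProduct.induction_on with
      | zero => simp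
      | tmul t m => simp
      | add a b ha hb => simp only [map_add, ha, hb]
    rwa [e3, e4] at h1
  obtain ⟨m, hm⟩ :=
    mem_range_of_one_tmul_mem (T := T) (M := ULift.{u} M) (N := T ⊗[A] M)
      ((TensorProduct.mk A T M 1) ∘ₗ ULift.moduleEquiv.toLinearMap) x ⟨(ULift.moduleEquiv.symm.toLinearMap).lTensor T x, by
        rw [← LinearMap.lTensor_comp_apply, hkey]
        exact congrArg (fun f : M →ₗ[A] T ⊗[A] M => f.lTensor T x) (LinearMap.ext fun _ => rfl)⟩
  exact ⟨m.down, fun j => by rw [← hx j, ← hm]; rfl⟩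

variable {F : Adeq.MVF A}

/-- The structure map from the base. -/
noncomputable abbrev ofBase (C : Type u) [CommRing C] [Algebra A C] : Adeq.algOf A A ⟶ Adeq.algOf A C :=
  CommAlgCat.ofHom (Algebra.ofId A C)

theorem ev_mp_ofBase {M : ModuleCat.{u + 1} A} (C : Type u) [CommRing C] [Algebra A C] (m : M) :
    ev (Adeq.algOf A C) (mp (U M) (ofBase C) ((ev (Adeq.algOf A A)).symm ((1 : A) ⊗ₜ m))) = (1 : C) ⊗ₜ m := by
  rw [ev_mp, AddEquiv.apply_symm_apply, LinearMap.rTensor_tmul]
  exact congrArg (· ⊗ₜ[A] m) (map_one (Algebra.ofId A C))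

theorem exists_base {M : ModuleCat.{u + 1} A} (x : (U M).obj (Adeq.pt (Adeq.algOf A A))) :
    ∃ m : M, x = (ev (Adeq.algOf A A)).symm ((1 : A) ⊗ₜ m) := by
  obtain ⟨x, rfl⟩ := (ev (Adeq.algOf A A)).symm.surjective x
  exact ⟨TensorProduct.lid A M x, congrArg _ ((TensorProduct.lid A M).symm_apply_apply x).symm⟩

theorem Good.family_injective (hF : Good F) (x : F.obj (Adeq.pt (Adeq.algOf A A)))
    (h : ∀ j, mp F (ofBase (A' j)) x = 0) : x = 0 := by
  obtain ⟨M, N, φ, ι, hk⟩ := adequate_iff.1 (good_iff.1 hF)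
  refine (hk _).1 ?_
  obtain ⟨m, hm⟩ := exists_base (ap ι (Adeq.algOf A A) x)
  have hm0 : m = 0 := AdeqFound.family_injective A' m fun j => by
    rw [← ev_mp_ofBase, ← hm, ← nat_ap, h, map_zero, map_zero]
  rw [map_zero, hm, hm0, TensorProduct.tmul_zero, map_zero]

theorem Good.family_glue (hF : Good F) (y : ∀ j, F.obj (Adeq.pt (Adeq.algOf A (A' j))))
    (hy : ∀ j k, mp F (CommAlgCat.ofHom (Algebra.TensorProduct.includeLeft : A' j →ₐ[A] A' j ⊗[A] A' k) :
        Adeq.algOf A (A' j) ⟶ Adeq.algOf A (A' j ⊗[A] A' k)) (y j) =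
      mp F (CommAlgCat.ofHom (Algebra.TensorProduct.includeRight : A' k →ₐ[A] A' j ⊗[A] A' k) :
        Adeq.algOf A (A' k) ⟶ Adeq.algOf A (A' j ⊗[A] A' k)) (y k)) :
    ∃ x, ∀ j, mp F (ofBase (A' j)) x = y j := by
  obtain ⟨M, N, φ, ι, hk⟩ := adequate_iff.1 (good_iff.1 hF)
  obtain ⟨m, hm⟩ := AdeqFound.family_glue A' (fun j => ev (Adeq.algOf A (A' j)) (ap ι (Adeq.algOf A (A' j)) (y j))) fun j k => by
    have h := congrArg (fun z => ev (Adeq.algOf A (A' j ⊗[A] A' k)) (ap ι (Adeq.algOf A (A' j ⊗[A] A' k)) z)) (hy j k)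
    rw [nat_ap, nat_ap, ev_mp, ev_mp] at h
    exact h
  obtain ⟨x, hx⟩ := ((hk (Adeq.algOf A A)).2 ((ev (Adeq.algOf A A)).symm ((1 : A) ⊗ₜ m))).1 (by
    obtain ⟨n, hn⟩ := exists_base (ap ((Adeq.underline A).map φ) (Adeq.algOf A A) ((ev (Adeq.algOf A A)).symm ((1 : A) ⊗ₜ m)))
    have hn0 : n = 0 := AdeqFound.family_injective A' n fun j => by
      rw [← ev_mp_ofBase, ← hn, ← nat_ap, ev_ap, ev_mp_ofBase, hm, ← ev_ap,
        ((hk (Adeq.algOf A (A' j))).2 _).2 ⟨y j, rfl⟩, map_zero]
    rw [hn, hn0, TensorProduct.tmul_zero, map_zero])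
  exact ⟨x, fun j => (hk _).1 ((ev _).injective (by rw [nat_ap, hx, ev_mp_ofBase, hm]))⟩

omit [Module.FaithfullyFlat A (∀ j, A' j)] in
theorem faithfullyFlat_pi [∀ j, Module.Flat A (A' j)]
    (h : ∀ p : PrimeSpectrum A, ∃ j, p ∈ Set.range (PrimeSpectrum.comap (algebraMap A (A' j)))) :
    Module.FaithfullyFlat A (∀ j, A' j) := by
  classical
  haveI : Module.Flat A (∀ j, A' j) := Module.Flat.of_linearEquiv (DFinsupp.linearEquivFunOnFintype (R := A) (M := A')).symm
  refine Module.FaithfullyFlat.of_comap_surjective fun p => ?_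
  obtain ⟨j, q, hq⟩ := h p
  exact ⟨PrimeSpectrum.comap (Pi.evalRingHom A' j) q, hq⟩

end Groth.Agent.AdeqFound
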