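import Groth.Agent.AdeqFound.Closure

/-!
# Extensions of good functors
-/

set_option autoImplicit false

universe u

open CategoryTheory Limits TensorProduct Opposite

namespace Groth.Agent.AdeqFound

variable {A : Type u} [CommRing A] {F G H : Adeq.MVF A} {C D : Adeq.Alg A}

/-- The map induced on polynomials. -/
noncomputable def mapP (f : C ⟶ D) : Po C ⟶ Po D := CommAlgCat.ofHom (Polynomial.mapAlgHom f.hom)

/-- Evaluation of polynomials. -/
noncomputable def evP (c : (C : Type u)) : Po C ⟶ C :=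
  CommAlgCat.ofHom ((Polynomial.aeval c).restrictScalars A)

/-- `X ↦ TX`. -/
noncomputable def dil (C : Adeq.Alg A) : Po C ⟶ Po (Po C) :=
  CommAlgCat.ofHom ((Polynomial.aeval
    (Polynomial.C Polynomial.X * Polynomial.X : Polynomial (Polynomial (C : Type u)))).restrictScalars A)

theorem inc_mapP (f : C ⟶ D) : inc C ≫ mapP f = f ≫ inc D :=
  CommAlgCat.hom_ext (AlgHom.ext fun c => by
    show Polynomial.map f.hom.toRingHom (Polynomial.C c) = Polynomial.C (f.hom c)
    rw [Polynomial.map_C]; rfl)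

theorem mapP_X (f : C ⟶ D) : (mapP f).hom (Polynomial.X : Polynomial (C : Type u)) = (Polynomial.X : Polynomial (D : Type u)) :=
  Polynomial.map_X _

theorem inc_evP (c : (C : Type u)) : inc C ≫ evP c = 𝟙 C :=
  CommAlgCat.hom_ext (AlgHom.ext fun x => Polynomial.aeval_C c x)

theorem evP_X (c : (C : Type u)) : (evP c).hom (Polynomial.X : Polynomial (C : Type u)) = c :=
  Polynomial.aeval_X c

theorem inc_dil (C : Adeq.Alg A) : inc C ≫ dil C = inc C ≫ inc (Po C) :=
  CommAlgCat.hom_ext (AlgHom.ext fun x => Polynomial.aeval_C _ x)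

theorem mp_mapP_psum (f : C ⟶ D) (x : ℕ →₀ F.obj (Adeq.pt C)) :
    mp F (mapP f) (psum F C x) = psum F D (Finsupp.mapRange (mp F f) (map_zero _) x) := by
  induction x using Finsupp.induction_linear with
  | zero => simp
  | add x y hx hy => rw [map_add, map_add, hx, hy, Finsupp.mapRange_add (map_add _), map_add]
  | single k x =>
    rw [psum_single, Finsupp.mapRange_single, psum_single, mp_smul, mp_comp, inc_mapP, ← mp_comp, map_pow, mapP_X]

theorem mp_dil_psum (x : ℕ →₀ F.obj (Adeq.pt C)) :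
    ∃ z, mp F (dil C) (psum F C x) = psum F (Po C) z ∧
      z 1 = ((Polynomial.X : Polynomial (C : Type u)) : (Po C : Type u)) • mp F (inc C) (x 1) := by
  induction x using Finsupp.induction_linear with
  | zero => exact ⟨0, by simp, by rw [Finsupp.coe_zero, Finsupp.coe_zero]; simp⟩
  | add x y hx hy =>
    obtain ⟨z, hz, hz1⟩ := hx
    obtain ⟨w, hw, hw1⟩ := hy
    exact ⟨z + w, by rw [map_add, map_add, hz, hw, map_add],
      by rw [Finsupp.add_apply, Finsupp.add_apply, hz1, hw1, map_add, smul_add]⟩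
  | single k a =>
    refine ⟨Finsupp.single k (((Polynomial.X : Polynomial (C : Type u)) ^ k : (Po C : Type u)) • mp F (inc C) a), ?_, ?_⟩
    · rw [psum_single, psum_single, mp_smul, mp_smul, mp_comp, mp_comp, inc_dil, smul_smul]
      refine congrArg (· • _) ?_
      show Polynomial.aeval _ (Polynomial.X ^ k) = Polynomial.X ^ k * Polynomial.C (Polynomial.X ^ k)
      rw [map_pow, Polynomial.aeval_X, mul_pow, Polynomial.C_pow, mul_comm]
    · by_cases hk : k = 1
      · subst hk; rw [Finsupp.single_eq_same, Finsupp.single_eq_same, pow_one]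
      · rw [Finsupp.single_eq_of_ne (Ne.symm hk), Finsupp.single_eq_of_ne (Ne.symm hk), map_zero, smul_zero]

theorem poly_ext (ι : F ⟶ G) (g : G ⟶ H) (hι : ∀ B, Function.Injective (ap ι B))
    (hg : ∀ B, Function.Surjective (ap g B)) (hex : ∀ B x, ap g B x = 0 ↔ ∃ y, ap ι B y = x)
    (hF : Poly F) (hH : Poly H) : Poly G := by
  classical
  intro C
  constructor
  · refine (injective_iff_map_eq_zero _).2 fun x hx => ?_
    have h0 : Finsupp.mapRange (ap g C) (map_zero _) x = 0 := (hH C).1 (by rw [← psum_nat, hx, map_zero, map_zero])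
    have h1 : ∀ k, ∃ y, ap ι C y = x k := fun k => (hex C _).1 (by simpa using congrArg (fun w => w k) h0)
    choose y hy using h1
    let y' : ℕ →₀ F.obj (Adeq.pt C) := Finsupp.onFinset x.support y fun k hk =>
      Finsupp.mem_support_iff.2 fun e => hk ((hι C) (by rw [hy, e, map_zero]))
    have hy' : Finsupp.mapRange (ap ι C) (map_zero _) y' = x := by ext k; simp [y', hy]
    have : y' = 0 := (hF C).1 (hι _ (by rw [psum_nat, hy', hx, map_zero, map_zero]))
    rw [← hy', this, Finsupp.mapRange_zero]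
  · intro z
    obtain ⟨w, hw⟩ := (hH C).2 (ap g (Po C) z)
    obtain ⟨v, rfl⟩ := Finsupp.mapRange_surjective (ap g C) (map_zero _) (hg C) w
    obtain ⟨y, hy⟩ := (hex (Po C) (z - psum G C v)).1 (by rw [map_sub, psum_nat, hw, sub_self])
    obtain ⟨y', rfl⟩ := (hF C).2 y
    exact ⟨v + Finsupp.mapRange (ap ι C) (map_zero _) y', by rw [map_add, ← psum_nat, hy, add_sub_cancel]⟩

variable {Q : Type u} [AddCommGroup Q] [Module A Q]

theorem tw_add {C : Type u} [CommRing C] [Algebra A C] (h h' : Q →ₗ[A] C) : tw A (h + h') = tw A h + tw A h' :=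
  LinearMap.ext fun x => by simp [tw_apply, mul_add]

theorem ψ_tw_mapP (f : C ⟶ D) (h : Q →ₗ[A] (C : Type u)) :
    ψ (C := Po C) (tw A h) ≫ mapP f = ψ (C := Po D) (tw A (f.hom.toLinearMap ∘ₗ h)) := by
  rw [ψ_comp]
  refine congrArg ψ (LinearMap.ext fun x => ?_)
  show Polynomial.map f.hom.toRingHom (Polynomial.X * Polynomial.C (h x)) = Polynomial.X * Polynomial.C (f.hom (h x))
  rw [Polynomial.map_mul, Polynomial.map_X, Polynomial.map_C]; rfl

theorem exists_lift_lin (hF : Good F) (hG : Poly G) (ι : F ⟶ G) (g : G ⟶ H) (hι : ∀ B, Function.Injective (ap ι B))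
    (hg : ∀ B, Function.Surjective (ap g B)) (hex : ∀ B x, ap g B x = 0 ↔ ∃ y, ap ι B y = x)
    (hH : Poly H) (η : Lin Q H) : ∃ ζ : Lin Q G, Lin.post g ζ = η := by
  obtain ⟨y, hy⟩ := hg (Sy A Q) (η.app (Sy A Q) (ιS A Q))
  let σ : Sy A Q ⟶ Po (Sy A Q) := ψ (C := Po (Sy A Q)) (tw A (ιS A Q))
  obtain ⟨x, hx⟩ := (hG (Sy A Q)).2 (mp G σ y)
  let e : ∀ C : Adeq.Alg A, (Q →ₗ[A] (C : Type u)) → G.obj (Adeq.pt C) := fun C h => mp G (ψ h) (x 1)
  have hnat : ∀ {C D : Adeq.Alg A} (f : C ⟶ D) (h : Q →ₗ[A] (C : Type u)), mp G f (e C h) = e D (f.hom.toLinearMap ∘ₗ h) :=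
    fun f h => by show mp G f (mp G (ψ h) (x 1)) = _; rw [mp_comp, ψ_comp]
  have hσσ : σ ≫ mapP σ = σ ≫ dil (Sy A Q) := by
    rw [ψ_tw_mapP, ψ_comp]
    refine congrArg ψ (LinearMap.ext fun q => ?_)
    show Polynomial.X * Polynomial.C (σ.hom (ιS A Q q)) = Polynomial.aeval _ (Polynomial.X * Polynomial.C (ιS A Q q))
    rw [show σ.hom (ιS A Q q) = tw A (ιS A Q) q from LinearMap.congr_fun (ψ_ι (C := Po (Sy A Q)) (tw A (ιS A Q))) q, tw_apply,
      map_mul, map_mul, Polynomial.aeval_X, Polynomial.aeval_C, ← mul_assoc, mul_comm Polynomial.X (Polynomial.C _)]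
    rfl
  have huniv : mp G σ (x 1) = ((Polynomial.X : Polynomial (Sy A Q : Type u)) : (Po (Sy A Q) : Type u)) • mp G (inc _) (x 1) := by
    obtain ⟨z, hz, hz1⟩ := mp_dil_psum (F := G) x
    have h1 : psum G (Po (Sy A Q)) (Finsupp.mapRange (mp G σ) (map_zero _) x) = psum G (Po (Sy A Q)) z := by
      rw [← mp_mapP_psum, ← hz, hx, mp_comp, mp_comp, hσσ]
    have h2 := congrArg (fun w => w 1) ((hG _).1 h1)
    rw [← hz1, ← h2, Finsupp.mapRange_apply]
  have hhom : ∀ (C : Adeq.Alg A) (h : Q →ₗ[A] (C : Type u)),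
      e (Po C) (tw A h) = ((Polynomial.X : Polynomial (C : Type u)) : (Po C : Type u)) • mp G (inc C) (e C h) := by
    intro C h
    have h1 := congrArg (mp G (mapP (ψ h))) huniv
    rw [mp_comp, ψ_tw_mapP, ψ_ι, mp_smul, mp_comp, inc_mapP, ← mp_comp, mapP_X] at h1
    exact h1
  have hgy : ∀ (C : Adeq.Alg A) (h : Q →ₗ[A] (C : Type u)), ap g C (e C h) = η.app C h := by
    intro C h
    have h1 : psum H (Sy A Q) (Finsupp.mapRange (ap g (Sy A Q)) (map_zero (ap g (Sy A Q))) x) =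
        psum H (Sy A Q) (Finsupp.single 1 (η.app (Sy A Q) (ιS A Q))) := by
      rw [← psum_nat, hx, nat_ap, hy, η.nat, ψ_ι, psum_single, pow_one, η.app_tw]
    have h2 := congrArg (fun w => w 1) ((hH _).1 h1)
    simp only [Finsupp.mapRange_apply, Finsupp.single_eq_same] at h2
    show ap g C (mp G (ψ h) (x 1)) = _
    rw [nat_ap, h2, η.nat, ψ_ι]
  have hsmul : ∀ {C : Adeq.Alg A} (c : C) (h : Q →ₗ[A] (C : Type u)), e C (c • h) = c • e C h := by
    intro C c h
    have h1 := congrArg (mp G (evP (C := C) c)) (hhom C h)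
    rw [hnat, mp_smul, mp_comp, inc_evP, mp_id, evP_X] at h1
    rw [← h1]
    refine congrArg (e C) (LinearMap.ext fun q => ?_)
    show c • h q = Polynomial.aeval (R := (C : Type u)) c (Polynomial.X * Polynomial.C (h q))
    rw [map_mul, Polynomial.aeval_X, Polynomial.aeval_C]; rfl
  have he0 : ∀ C : Adeq.Alg A, e C 0 = 0 := fun C => by
    have := hsmul (0 : C) (0 : Q →ₗ[A] (C : Type u))
    rwa [zero_smul, zero_smul] at this
  let l : Q →ₗ[A] Q × Q := LinearMap.inl A Q Q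
  let r : Q →ₗ[A] Q × Q := LinearMap.inr A Q Q
  have hd : ∀ (C : Adeq.Alg A) (h : Q × Q →ₗ[A] (C : Type u)),
      ∃ z, ap ι C z = e C (h ∘ₗ l + h ∘ₗ r) - e C (h ∘ₗ l) - e C (h ∘ₗ r) :=
    fun C h => (hex C _).1 (by rw [map_sub, map_sub, hgy, hgy, hgy, η.add]; abel)
  choose d hd using hd
  obtain ⟨δ, hδ⟩ := hF.exists_lin (Q := Q × Q) d (fun {C D} f h => hι D (by
      rw [nat_ap, hd, hd, map_sub, map_sub, hnat, hnat, hnat]
      simp only [LinearMap.comp_add, LinearMap.comp_assoc]))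
    fun C h => hι (Po C) (by
      rw [map_smul, nat_ap, hd, hd]
      have e1 : ∀ T : Q →ₗ[A] Q × Q, tw A h ∘ₗ T = tw A (h ∘ₗ T) := fun T => rfl
      rw [e1, e1, ← tw_add, hhom, hhom, hhom, map_sub, map_sub, smul_sub, smul_sub])
  have hadd : ∀ {C : Adeq.Alg A} (h h' : Q →ₗ[A] (C : Type u)), e C (h + h') = e C h + e C h' := by
    intro C h h'
    have hsplit : h.coprod h' = h.coprod 0 + (0 : Q →ₗ[A] (C : Type u)).coprod h' := by
      refine LinearMap.ext fun p => ?_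
      simp
    have h1 := congrArg (ap ι C) ((δ.add (h.coprod 0) ((0 : Q →ₗ[A] (C : Type u)).coprod h')))
    rw [← hsplit, map_add, hδ, hδ, hδ, hd, hd, hd] at h1
    simp only [l, r, LinearMap.coprod_inl, LinearMap.coprod_inr, add_zero, zero_add, he0, sub_zero, sub_self] at h1
    rw [sub_sub, sub_eq_zero] at h1
    exact h1
  exact ⟨⟨e, hnat, hadd, hsmul⟩, Lin.ext (funext fun C => funext fun h => hgy C h)⟩

/-- Extensions of good functors are good. -/
theorem good_ext (ι : F ⟶ G) (g : G ⟶ H) (hι : ∀ B, Function.Injective (ap ι B))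
    (hg : ∀ B, Function.Surjective (ap g B)) (hex : ∀ B x, ap g B x = 0 ↔ ∃ y, ap ι B y = x)
    (hF : Good F) (hH : Good H) : Good G := by
  have hp := poly_ext ι g hι hg hex hF.poly hH.poly
  refine ⟨fun B x => ?_, fun Q _ ξ B b hb => ?_, hp⟩
  · obtain ⟨Q₁, hQ₁, η, b₁, hb₁⟩ := hH.gen B (ap g B x)
    obtain ⟨ζ, rfl⟩ := exists_lift_lin hF hp ι g hι hg hex hH.poly η
    obtain ⟨y, hy⟩ := (hex B (x - ζ.app B b₁)).1 (by rw [map_sub, ← hb₁, Lin.post_app, sub_self])
    obtain ⟨Q₂, hQ₂, θ, b₂, rfl⟩ := hF.gen B y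
    haveI := hQ₁; haveI := hQ₂
    let P : ModuleCat.{u} A := ModuleCat.of A (Prod (Q₁ : Type u) (Q₂ : Type u))
    let i : Q₁ →ₗ[A] P := LinearMap.inl A Q₁ Q₂
    let i' : Q₂ →ₗ[A] P := LinearMap.inr A Q₁ Q₂
    let c : P →ₗ[A] (B : Type u) := b₁.coprod b₂
    refine ⟨P, inferInstanceAs (Module.FinitePresentation A (Prod (Q₁ : Type u) (Q₂ : Type u))),
      Lin.push i ζ + Lin.push i' (Lin.post ι θ), c, ?_⟩
    rw [Lin.add_app, Lin.push_app, Lin.push_app, show c ∘ₗ i = b₁ from LinearMap.coprod_inl _ _,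
      show c ∘ₗ i' = b₂ from LinearMap.coprod_inr _ _, Lin.post_app, hy, add_sub_cancel]
  · obtain ⟨Q₁, hQ₁, T₁, b₁, hb₁, h₁⟩ := hH.rel Q (Lin.post g ξ) B b (by rw [Lin.post_app, hb, map_zero])
    haveI := hQ₁
    obtain ⟨θ, hθ⟩ := Lin.exists_post_eq ι hι (Lin.push T₁ ξ) fun C h => (hex C _).1 (by
      have := congrArg (fun w => w.app C h) h₁
      simpa using this)
    obtain ⟨Q₂, hQ₂, T₂, b₂, hb₂, h₂⟩ := hF.rel Q₁ θ B b₁ (hι B (by
      rw [map_zero, ← Lin.post_app ι θ B b₁, hθ, Lin.push_app, hb₁, hb]))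
    refine ⟨Q₂, hQ₂, T₂ ∘ₗ T₁, b₂, by rw [← LinearMap.comp_assoc, hb₂, hb₁], ?_⟩
    rw [← Lin.push_push, ← hθ, show Lin.push T₂ (Lin.post ι θ) = Lin.post ι (Lin.push T₂ θ) from rfl, h₂, map_zero]

theorem good_of_shortExact (S : ShortComplex (Adeq.MVF A)) (hS : S.ShortExact) (h₁ : Good S.X₁) (h₃ : Good S.X₃) :
    Good S.X₂ := by
  haveI := hS.mono_f
  haveI := hS.epi_g
  exact good_ext S.f S.g (ap_inj_of_mono _) (ap_surj_of_epi _) (exact_ap S hS.exact) h₁ h₃

end Groth.Agent.AdeqFound
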