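import Groth.Agent.AdeqFound.BaseChange

/-!
# Descent along a finite family
-/

set_option autoImplicit false

universe u

open CategoryTheory Limits TensorProduct Opposite

namespace Groth.Agent.AdeqFound

variable {A : Type u} [CommRing A] {F : Adeq.MVF A}

/-- Descent of goodness along a family. -/
theorem good_of_descent_family {J : Type (u + 1)} [Fintype J] (A' : J → Type u) [∀ j, CommRing (A' j)]
    [∀ j, Algebra A (A' j)] (h₁ : ∀ j, Good ((Adeq.restr A (A' j)).obj F))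
    (h₂ : ∀ B : Adeq.Alg A,
      (∀ x : F.obj (Adeq.pt B), (∀ j, mp F (Adeq.Alg.unit A (A' j) B) x = 0) → x = 0) ∧
      ∀ y : ∀ j, F.obj (Adeq.pt (rB (A := A) (bC (A' j) B))),
        (∀ j k, mp F (Adeq.Alg.unit A (A' k) (rB (A := A) (bC (A' j) B))) (y j) =
          mp F ((Adeq.Alg.restr A (A' k)).map ((Adeq.Alg.baseChange A (A' k)).map (Adeq.Alg.unit A (A' j) B))) (y k)) →
        ∃ x, ∀ j, mp F (Adeq.Alg.unit A (A' j) B) x = y j) : Good F := by
  classical
  let P : J → Adeq.MVF A := fun j => (PR (A' j)).obj F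
  let W : J × J → Adeq.MVF A := fun p => (PR (A' p.2)).obj ((PR (A' p.1)).obj F)
  have hP : ∀ j, Good (P j) := fun j => good_push (h₁ j)
  have hW : ∀ p, Good (W p) := fun p =>
    good_push (G := (Adeq.restr A (A' p.2)).obj ((PR (A' p.1)).obj F)) (good_restr (hP p.1))
  let d : ∀ p : J × J, (∐ P) ⟶ W p := fun p =>
    sproj P p.2 ≫ (PR (A' p.2)).map (unitHom (A' := A' p.1) F) - sproj P p.1 ≫ unitHom (A' := A' p.2) (P p.1)
  let δ : (∐ P) ⟶ ∐ W := ∑ p, d p ≫ Sigma.ι W p
  let η : F ⟶ ∐ P := ∑ j, unitHom (A' := A' j) F ≫ Sigma.ι P j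
  have hsum : ∀ {G H : Adeq.MVF A} {I : Type (u + 1)} (s : Finset I) (f : I → (G ⟶ H)) (B : Adeq.Alg A) x,
      ap (∑ i ∈ s, f i) B x = ∑ i ∈ s, ap (f i) B x := fun {G H I} s f B x => by
    let e : (G ⟶ H) →+ H.obj (Adeq.pt B) := AddMonoidHom.mk' (fun φ => ap φ B x) (fun _ _ => rfl)
    exact map_sum e f s
  have hη : ∀ B x j, ap (sproj P j) B (ap η B x) = ap (unitHom (A' := A' j) F) B x := fun B x j => by
    rw [hsum]
    simp only [ap_comp]
    rw [sproj_sum P Finset.univ B (fun i => ap (unitHom (A' := A' i) F) B x), if_pos (Finset.mem_univ j)]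
  have hδ : ∀ B y, ap δ B y = 0 ↔ ∀ p, ap (d p) B y = 0 := fun B y => by
    refine ⟨fun h p => ?_, fun h => ?_⟩
    · have h1 := congrArg (ap (sproj W p) B) h
      rw [hsum, map_zero] at h1
      simp only [ap_comp] at h1
      rwa [sproj_sum W Finset.univ B (fun i => ap (d i) B y), if_pos (Finset.mem_univ p)] at h1
    · rw [hsum]
      exact Finset.sum_eq_zero fun p _ => by rw [ap_comp, h, map_zero]
  refine good_of_kernel (good_sigma P hP) η δ (fun C => ((good_sigma W hW).poly C).1) (good_sigma W hW).rel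
    fun B => ⟨(injective_iff_map_eq_zero _).2 fun x hx => (h₂ B).1 x fun j => ?_, fun y => ?_⟩
  · have h := hη B x j
    rw [hx, map_zero] at h
    exact h.symm
  let yv : ∀ j, F.obj (Adeq.pt (rB (A := A) (bC (A' j) B))) := fun j => evR F _ (evP' _ B (ap (sproj P j) B y))
  have hd : ∀ p : J × J, ap (d p) B y = 0 ↔
      mp F (Adeq.Alg.unit A (A' p.1) (rB (A := A) (bC (A' p.2) B))) (yv p.2) =
        mp F ((Adeq.Alg.restr A (A' p.1)).map ((Adeq.Alg.baseChange A (A' p.1)).map (Adeq.Alg.unit A (A' p.2) B))) (yv p.1) := by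
    intro p
    rw [show ap (d p) B y = ap ((PR (A' p.2)).map (unitHom (A' := A' p.1) F)) B (ap (sproj P p.2) B y) -
      ap (unitHom (A' := A' p.2) (P p.1)) B (ap (sproj P p.1) B y) from rfl, sub_eq_zero]
    exact Iff.rfl
  rw [hδ]
  constructor
  · intro h
    obtain ⟨x, hx⟩ := (h₂ B).2 yv fun j k => (hd (k, j)).1 (h (k, j))
    refine ⟨x, sub_eq_zero.1 (sigma_joint_injective P B _ fun j => ?_)⟩
    rw [map_sub, hη, sub_eq_zero]
    exact hx j
  · rintro ⟨x, rfl⟩ p
    refine (hd p).2 ?_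
    simp only [yv, hη]
    have h : Adeq.Alg.unit A (A' p.2) B ≫ Adeq.Alg.unit A (A' p.1) (rB (A := A) (bC (A' p.2) B)) =
        Adeq.Alg.unit A (A' p.1) B ≫
          (Adeq.Alg.restr A (A' p.1)).map ((Adeq.Alg.baseChange A (A' p.1)).map (Adeq.Alg.unit A (A' p.2) B)) :=
      CommAlgCat.hom_ext (DFunLike.ext _ _ fun b => rfl)
    show mp F _ (mp F (Adeq.Alg.unit A (A' p.2) B) x) = mp F _ (mp F (Adeq.Alg.unit A (A' p.1) B) x)
    exact (mp_comp _ _ x).trans ((congrArg (fun w => mp F w x) h).trans (mp_comp _ _ x).symm)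

end Groth.Agent.AdeqFound
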