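import Groth.Agent.AdeqFound.LinAdequate
import Mathlib.CategoryTheory.Adjunction.Comma
import Mathlib.CategoryTheory.Preadditive.Injective.Basic
import Mathlib.CategoryTheory.ObjectProperty.FullSubcategory

/-!
# The coreflector and injective objects
-/

set_option autoImplicit false

universe u

open CategoryTheory Limits TensorProduct Opposite

namespace Groth.Agent.AdeqFound

variable {A : Type u} [CommRing A]

section Cand

/-- Index of linearly adequate functors. -/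
abbrev Cand (A : Type u) [CommRing A] : Type u := Σ (n : ℕ) (m : ℕ), Fin m → Fin n → A

theorem exists_reps : ∃ (K : Cand A → Adeq.MVF A) (ζ : ∀ c : Cand A, Lin (QR c.2.2) (K c)),
    (∀ c, Good (K c)) ∧ ∀ c B, Function.Bijective ((ζ c).app B) := by
  let Mo : ℕ → ModuleCat.{u + 1} A := fun n => ModuleCat.of A (ULift.{u + 1} (Fin n → A))
  let b : ∀ n, Module.Basis (Fin n) A (Mo n) := fun n => (Pi.basisFun A (Fin n)).map ULift.moduleEquiv.symm
  let φ : ∀ c : Cand A, Mo c.1 ⟶ Mo c.2.1 := fun c =>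
    ModuleCat.ofHom ((b c.1).constr A fun k => ∑ j, c.2.2 j k • b c.2.1 j)
  choose ζ hζ using fun c : Cand A =>
    exists_universal c.2.2 (b c.1) (b c.2.1) (φ c) (fun k => (b c.1).constr_basis A _ k)
  exact ⟨_, ζ, fun c => good_of_adequate ⟨_, _, φ c, ⟨Iso.refl _⟩⟩, fun c => (hζ c).1⟩

theorem exists_cand (Q : ModuleCat.{u} A) [Module.FinitePresentation A Q] :
    ∃ c : Cand A, Nonempty ((Q : Type u) ≃ₗ[A] QR c.2.2) := by
  obtain ⟨n, q, hq⟩ := Module.Finite.exists_fin' A Q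
  obtain ⟨m, v, hv⟩ := Submodule.fg_iff_exists_fin_generating_family.1 (Module.FinitePresentation.fg_ker q hq)
  exact ⟨⟨n, m, v⟩, ⟨(q.quotKerEquivOfSurjective hq).symm.trans (Submodule.quotEquivOfEq _ _ hv.symm)⟩⟩

theorem exists_sum {I : Type (u + 1)} (K : I → Adeq.MVF A) (hK : ∀ i, Good (K i)) :
    ∃ (L : Adeq.MVF A) (inj : ∀ i, K i ⟶ L), Good L ∧
      (∀ (H : Adeq.MVF A) (a a' : L ⟶ H), (∀ i, inj i ≫ a = inj i ≫ a') → a = a') ∧
      ∀ (H : Adeq.MVF A) (f : ∀ i, K i ⟶ H), ∃ a : L ⟶ H, ∀ i, inj i ≫ a = f i :=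
  ⟨∐ K, Sigma.ι K, good_sigma K hK, fun _ _ _ h => Sigma.hom_ext _ _ h,
    fun _ f => ⟨Sigma.desc f, fun i => colimit.ι_desc _ _⟩⟩

/-- A good functor generated by all linear families satisfying a condition. -/
theorem exists_cover (F : Adeq.MVF A) (p : ∀ c : Cand A, Lin (QR c.2.2) F → Prop) :
    ∃ (L : Adeq.MVF A) (π : L ⟶ F) (η : ∀ i : (Σ c : Cand A, {ξ : Lin (QR c.2.2) F // p c ξ}), Lin (QR i.1.2.2) L),
      Good L ∧ (∀ i, Lin.post π (η i) = i.2.1) ∧
      (∀ (H : Adeq.MVF A) (a a' : L ⟶ H), (∀ i, Lin.post a (η i) = Lin.post a' (η i)) → a = a') ∧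
      ∀ (H : Adeq.MVF A) (s : ∀ i : (Σ c : Cand A, {ξ : Lin (QR c.2.2) F // p c ξ}), Lin (QR i.1.2.2) H),
        ∃ a : L ⟶ H, ∀ i, Lin.post a (η i) = s i := by
  obtain ⟨K, ζ, hK, hζ⟩ := exists_reps (A := A)
  let I : Type (u + 1) := Σ c : Cand A, {ξ : Lin (QR c.2.2) F // p c ξ}
  obtain ⟨L, inj, hL, hext, hd⟩ := exists_sum (fun i : I => K i.1) (fun i => hK i.1)
  have hdesc : ∀ (H : Adeq.MVF A) (s : ∀ i : I, Lin (QR i.1.2.2) H),
      ∃ a : L ⟶ H, ∀ i, Lin.post a (Lin.post (inj i) (ζ i.1)) = s i := by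
    intro H s
    choose f hf using fun i : I => exists_desc (hζ i.1) (s i)
    obtain ⟨a, ha⟩ := hd H f
    refine ⟨a, fun i => Lin.ext (funext fun B => funext fun h => ?_)⟩
    rw [Lin.post_app, Lin.post_app, ← ap_comp, ha]
    exact hf i B h
  obtain ⟨π, hπ⟩ := hdesc F fun i => i.2.1
  refine ⟨_, π, fun i => Lin.post (inj i) (ζ i.1), hL, hπ,
    fun H a a' h => hext H a a' fun i => hom_ext fun B x => ?_, hdesc⟩
  obtain ⟨h', rfl⟩ := (hζ i.1 B).2 x
  exact congrArg (fun w => w.app B h') (h i)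

theorem exists_coreflection (F : Adeq.MVF A) :
    ∃ (QF : Adeq.MVF A) (ε : QF ⟶ F), Good QF ∧ ∀ (X : Adeq.MVF A), Good X → ∀ g : X ⟶ F, ∃! h, h ≫ ε = g := by
  obtain ⟨L, π, η, hL, hπ, -, -⟩ := exists_cover F fun _ _ => True
  obtain ⟨R, ρ, θ, hR, hρ, hρext, -⟩ := exists_cover L fun _ w => Lin.post π w = 0
  have hρπ : ρ ≫ π = 0 := hρext F _ _ fun i => Lin.ext (funext fun B => funext fun b => by
    show ap π B (ap ρ B ((θ i).app B b)) = 0
    rw [← Lin.post_app ρ (θ i), hρ, ← Lin.post_app π i.2.1, i.2.2, Lin.zero_app])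
  have hQ := good_cokernel hR hL ρ
  let ε : cokernel ρ ⟶ F := cokernel.desc ρ π hρπ
  have hε : ∀ B x, ap ε B (ap (cokernel.π ρ) B x) = ap π B x := fun B x => by
    rw [← ap_comp, cokernel.π_desc]
  have hlift : ∀ (Q : ModuleCat.{u} A) [Module.FinitePresentation A Q] (w : Lin Q L), Lin.post π w = 0 →
      ∀ (B : Adeq.Alg A) (b : Q →ₗ[A] (B : Type u)), ap (cokernel.π ρ) B (w.app B b) = 0 := by
    intro Q _ w h0 B b
    obtain ⟨c, ⟨e⟩⟩ := exists_cand Q
    let i : Σ c : Cand A, {v : Lin (QR c.2.2) L // Lin.post π v = 0} := ⟨c, Lin.push e.toLinearMap w, by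
      show Lin.push e.toLinearMap (Lin.post π w) = 0
      rw [h0, map_zero]⟩
    refine (ap_cokernel_eq_zero ρ B _).2 ⟨(θ i).app B (b ∘ₗ e.symm.toLinearMap), ?_⟩
    rw [← Lin.post_app, hρ, Lin.push_app]
    exact congrArg (w.app B) (LinearMap.ext fun x => by simp)
  have hgen : ∀ (B : Adeq.Alg A) (x : (cokernel ρ).obj (Adeq.pt B)), ∃ (Q : ModuleCat.{u} A)
      (_ : Module.FinitePresentation A Q) (ξ : Lin Q L) (b : Q →ₗ[A] (B : Type u)),
      ap (cokernel.π ρ) B (ξ.app B b) = x := fun B x => by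
    obtain ⟨y, rfl⟩ := ap_surj_of_epi (cokernel.π ρ) B x
    obtain ⟨Q, hQ', ξ, b, rfl⟩ := hL.gen B y
    exact ⟨Q, hQ', ξ, b, rfl⟩
  have hzero : ∀ (X : Adeq.MVF A), Good X → ∀ d : X ⟶ cokernel ρ, d ≫ ε = 0 → d = 0 := by
    intro X hX d hd
    refine hom_ext fun B x => ?_
    obtain ⟨Q, hQ', ξ, b, rfl⟩ := hX.gen B x
    haveI := hQ'
    obtain ⟨w, hw⟩ := exists_lift_family hgen (fun C => (hQ.poly C).1) (Lin.post d ξ).app (Lin.post d ξ).nat
      (Lin.post d ξ).app_tw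
    have h0 : Lin.post π w = 0 := Lin.ext (funext fun C => funext fun g => by
      rw [Lin.post_app, ← hε, hw, Lin.post_app, ← ap_comp, hd]; rfl)
    show ap d B (ξ.app B b) = 0
    rw [← Lin.post_app, ← hw, hlift Q w h0]
  refine ⟨cokernel ρ, ε, hQ, fun X hX g => existsUnique_of_exists_of_unique ?_ fun h h' e e' =>
    sub_eq_zero.1 (hzero X hX _ (by rw [Preadditive.sub_comp, e, e', sub_self]))⟩
  obtain ⟨LX, πX, ηX, hLX, hπX, hXext, hXdesc⟩ := exists_cover X fun _ _ => True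
  haveI : Epi πX := PresheafOfModules.epi_of_surjective fun Y x => by
    obtain ⟨Q, hQ', ξ, b, hb⟩ := hX.gen Y.unop.unop x
    haveI := hQ'
    obtain ⟨c, ⟨e⟩⟩ := exists_cand Q
    refine ⟨(ηX ⟨c, Lin.push e.toLinearMap ξ, trivial⟩).app Y.unop.unop (b ∘ₗ e.symm.toLinearMap), ?_⟩
    show ap πX Y.unop.unop _ = x
    rw [← Lin.post_app, hπX, Lin.push_app, ← hb]
    exact congrArg (ξ.app _) (LinearMap.ext fun x => by simp)
  obtain ⟨a, ha⟩ := hXdesc (cokernel ρ) fun i => Lin.post (cokernel.π ρ) (η ⟨i.1, Lin.post g i.2.1, trivial⟩)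
  have hae : a ≫ ε = πX ≫ g := hXext F _ _ fun i => Lin.ext (funext fun B => funext fun b => by
    show ap ε B (ap a B ((ηX i).app B b)) = ap g B (ap πX B ((ηX i).app B b))
    refine (congrArg (ap ε B) (congrArg (fun z => z.app B b) (ha i))).trans ?_
    refine (hε B _).trans ?_
    refine (congrArg (fun z => z.app B b) (hπ ⟨i.1, Lin.post g i.2.1, trivial⟩)).trans ?_
    exact congrArg (ap g B) (congrArg (fun z => z.app B b) (hπX i)).symm)
  have hk : kernel.ι πX ≫ a = 0 := hzero _ (good_kernel hLX hX πX) _ (by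
    rw [Category.assoc, hae, kernel.condition_assoc, zero_comp])
  refine ⟨Abelian.epiDesc πX a hk, ?_⟩
  rw [← cancel_epi πX, Abelian.comp_epiDesc_assoc, hae]

end Cand

theorem isLeftAdjoint_ι : (Adeq.adequate A).ι.IsLeftAdjoint := by
  rw [isLeftAdjoint_iff_hasTerminal_costructuredArrow]
  intro F
  obtain ⟨QF, ε, hQ, h⟩ := exists_coreflection F
  choose w hw hu using fun (Y : CostructuredArrow (Adeq.adequate A).ι F) =>
    h Y.left.obj (good_iff.2 Y.left.property) Y.hom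
  refine IsTerminal.hasTerminal (IsTerminal.ofUniqueHom (Y := CostructuredArrow.mk (S := (Adeq.adequate A).ι)
    (Y := (⟨QF, good_iff.1 hQ⟩ : Adeq.Adequate A)) ε) (fun Y => CostructuredArrow.homMk (ObjectProperty.homMk (w Y)) (hw Y))
    fun Y m => ?_)
  ext1
  exact ObjectProperty.hom_ext _ (hu Y m.left.hom (CostructuredArrow.w m))

section Injective

theorem mono_hom {X Y : Adeq.Adequate A} (f : X ⟶ Y) [Mono f] : Mono f.hom :=
  Preadditive.mono_of_kernel_zero (by
    let K : Adeq.Adequate A := ⟨kernel f.hom, good_iff.1 (good_kernel (good_iff.2 X.property) (good_iff.2 Y.property) f.hom)⟩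
    have h : (ObjectProperty.homMk (kernel.ι f.hom) : K ⟶ X) = ObjectProperty.homMk 0 := by
      rw [← cancel_mono f]
      ext1
      show kernel.ι f.hom ≫ f.hom = 0 ≫ f.hom
      rw [kernel.condition, zero_comp]
    exact congrArg InducedCategory.Hom.hom h)

theorem exists_extend' {U V : Type (u + 1)} [AddCommGroup U] [AddCommGroup V] (f : U →+ V) (hf : Function.Injective f)
    (χ : U →+ RZ) : ∃ Y : V →+ RZ, ∀ x, Y (f x) = χ x := by
  obtain ⟨Y, hY⟩ := CharacterModule.dual_surjective_of_injective (R := ℤ) f.toIntLinearMap hf χ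
  exact ⟨Y, fun x => DFunLike.congr_fun hY x⟩

theorem exists_extension_DM {I : Type (u + 1)} (P : I → ModuleCat.{u} A) (hP : ∀ i, Module.FinitePresentation A (P i))
    {X Y : Adeq.MVF A} (hX : Good X) (hY : Good Y) (f : X ⟶ Y) (hf : ∀ B, Function.Injective (ap f B))
    (φ : X ⟶ U (DM P)) : ∃ g : Y ⟶ U (DM P), f ≫ g = φ := by
  choose t ht using fun (Q : ModuleCat.{u} A) (ξ : Lin Q X) => exists_ofTensor_eq (Lin.post φ ξ)
  let χ : ∀ i, Lin (P i) X →+ RZ := fun i =>
    AddMonoidHom.mk' (fun ξ => pair P i LinearMap.id (t (P i) ξ)) fun ξ ξ' => by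
      rw [← map_add]
      exact congrArg _ (ofTensor_injective (by rw [ht, map_add, map_add, ht, ht]))
  choose χ' hχ' using fun i => exists_extend' (Lin.post (Q := (P i : Type u)) f) (Lin.post_injective f hf) (χ i)
  obtain ⟨g, hg⟩ := exists_hom_DM hY P χ'
  refine ⟨g, hom_ext fun B x => (ev B).injective ?_⟩
  obtain ⟨Q, hQ, ξ, b, rfl⟩ := hX.gen B x
  haveI := hQ
  obtain ⟨z, hz, hgz⟩ := hg Q (Lin.post f ξ) B b
  rw [ap_comp, ← Lin.post_app f ξ, hgz, ← Lin.post_app φ ξ, ← ht Q ξ, ev_ofTensor]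
  refine congrArg _ ((existsUnique_pair P fun i => AddMonoidHom.mk' (fun h => χ i (Lin.push h ξ)) fun h h' => by
    rw [Lin.push_add, map_add]).unique (fun i h => ?_) fun i h => ?_)
  · rw [hz, AddMonoidHom.mk'_apply, show Lin.push h (Lin.post f ξ) = Lin.post f (Lin.push h ξ) from rfl, hχ']
  · show pair P i h (t Q ξ) = pair P i LinearMap.id (t (P i) (Lin.push h ξ))
    have e : t (P i) (Lin.push h ξ) = h.rTensor _ (t Q ξ) := ofTensor_injective (by
      rw [ht]
      refine Lin.ext (funext fun C => funext fun w => (ev C).injective ?_)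
      rw [ev_ofTensor, Lin.post_app, Lin.push_app, ← Lin.post_app φ ξ, ← ht Q ξ, ev_ofTensor, LinearMap.rTensor_comp_apply])
    rw [e, pair_comp, LinearMap.id_comp]

theorem enoughInjectives : EnoughInjectives (Adeq.Adequate A) := by
  refine ⟨fun F => ?_⟩
  have hP : ∀ i : Idx F.obj, Module.FinitePresentation A i.1.mod := fun i => i.1.finitePresentation
  obtain ⟨ι, hι⟩ := exists_embedding_DM (good_iff.2 F.property)
  let T : Adeq.Adequate A := ⟨U (DM fun i : Idx F.obj => i.1.mod), good_iff.1 (good_underline _)⟩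
  haveI : Mono ι := PresheafOfModules.mono_of_injective fun X => hι X.unop.unop
  haveI : Injective T := ⟨fun {X Y} g f hf => by
    haveI := mono_hom f
    obtain ⟨h, hh⟩ := exists_extension_DM _ hP (good_iff.2 X.property) (good_iff.2 Y.property) f.hom
      (ap_inj_of_mono f.hom) g.hom
    exact ⟨ObjectProperty.homMk h, by ext1; exact hh⟩⟩
  let f₀ : F ⟶ T := ObjectProperty.homMk ι
  haveI : Mono ((Adeq.adequate A).ι.map f₀) := ‹Mono ι›
  haveI : Mono f₀ := Functor.mono_of_mono_map (Adeq.adequate A).ι this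
  exact ⟨{ J := T, f := f₀ }⟩

end Injective

end Groth.Agent.AdeqFound
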