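import Groth.Agent.AdeqFound.Ext

/-!
# Change of rings for adequate functors
-/

set_option autoImplicit false

universe u

open CategoryTheory Limits TensorProduct Opposite

namespace Groth.Agent.AdeqFound

variable {A A' : Type u} [CommRing A] [CommRing A'] [Algebra A A']

/-- An algebra over `A'` as an algebra over `A`. -/
noncomputable abbrev rB (B : Adeq.Alg A') : Adeq.Alg A := (Adeq.Alg.restr A A').obj B

section Restr

variable (M : ModuleCat.{u + 1} A)

/-- The base change of a module. -/
noncomputable abbrev BM (A' : Type u) [CommRing A'] [Algebra A A'] (M : ModuleCat.{u + 1} A) : ModuleCat.{u + 1} A' :=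
  ModuleCat.of A' (A' ⊗[A] M)

/-- Cancellation of base change. -/
noncomputable def θ (B : Adeq.Alg A') : (U M).obj (Adeq.pt (rB (A := A) B)) ≃+ (U (BM A' M)).obj (Adeq.pt B) :=
  letI : Algebra A (B : Type u) := ((algebraMap A' (B : Type u)).comp (algebraMap A A')).toAlgebra
  haveI : IsScalarTower A A' (B : Type u) := IsScalarTower.of_algebraMap_eq fun _ => rfl
  (ev (rB (A := A) B)).trans
    ((AlgebraTensorModule.cancelBaseChange A A' A' (B : Type u) M).symm.toAddEquiv.trans (ev (M := BM A' M) B).symm)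

theorem θ_tmul (B : Adeq.Alg A') (b : (B : Type u)) (m : M) :
    ev (M := BM A' M) B (θ M B ((ev (rB (A := A) B)).symm (b ⊗ₜ m))) = b ⊗ₜ ((1 : A') ⊗ₜ m) := rfl

@[elab_as_elim]
theorem ev_induction {R : Type u} [CommRing R] {N : ModuleCat.{u + 1} R} {B : Adeq.Alg R}
    {p : (U N).obj (Adeq.pt B) → Prop} (x : (U N).obj (Adeq.pt B)) (h0 : p 0)
    (ht : ∀ (b : (B : Type u)) (n : N), p ((ev B).symm (b ⊗ₜ n))) (hadd : ∀ x y, p x → p y → p (x + y)) : p x := by
  obtain ⟨x, rfl⟩ := (ev B).symm.surjective x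
  induction x using TensorProduct.induction_on with
  | zero => rwa [map_zero]
  | tmul b n => exact ht b n
  | add x y hx hy => rw [map_add]; exact hadd _ _ hx hy

end Restr

variable {F : Adeq.MVF A}

/-- The value of a restriction. -/
noncomputable def evR (F : Adeq.MVF A) (B : Adeq.Alg A') :
    ((Adeq.restr A A').obj F).obj (Adeq.pt B) ≃+ F.obj (Adeq.pt (rB (A := A) B)) :=
  { toFun := fun x => x, invFun := fun x => x, left_inv := fun _ => rfl, right_inv := fun _ => rfl,
    map_add' := fun _ _ => rfl }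

theorem evR_smul (B : Adeq.Alg A') (c : (B : Type u)) (x : ((Adeq.restr A A').obj F).obj (Adeq.pt B)) :
    evR F B (c • x) = (c : (rB (A := A) B : Type u)) • evR F B x := rfl

theorem evR_mp {B C : Adeq.Alg A'} (f : B ⟶ C) (x : ((Adeq.restr A A').obj F).obj (Adeq.pt B)) :
    evR F C (mp ((Adeq.restr A A').obj F) f x) = mp F ((Adeq.Alg.restr A A').map f) (evR F B x) := rfl

theorem good_restr (hF : Good F) : Good ((Adeq.restr A A').obj F) := by
  obtain ⟨M, N, φ, ι, h⟩ := adequate_iff.1 (good_iff.1 hF)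
  have hsmul : ∀ (M : ModuleCat.{u + 1} A) (B : Adeq.Alg A') (c : (B : Type u)) (x : (U M).obj (Adeq.pt (rB (A := A) B))),
      θ M B ((c : (rB (A := A) B : Type u)) • x) = c • θ M B x := by
    intro M B c x
    induction x using ev_induction with
    | h0 => simp
    | ht b m => rfl
    | hadd x y hx hy => rw [smul_add, map_add, map_add, hx, hy, smul_add]
  have hnat : ∀ (M : ModuleCat.{u + 1} A) {B C : Adeq.Alg A'} (f : B ⟶ C) (x : (U M).obj (Adeq.pt (rB (A := A) B))),
      θ M C (mp (U M) ((Adeq.Alg.restr A A').map f) x) = mp (U (BM A' M)) f (θ M B x) := by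
    intro M B C f x
    induction x using ev_induction with
    | h0 => simp
    | ht b m => rfl
    | hadd x y hx hy => rw [map_add, map_add, hx, hy, map_add, map_add]
  have hmap : ∀ (B : Adeq.Alg A') (x : (U M).obj (Adeq.pt (rB (A := A) B))),
      ap ((Adeq.underline A').map (ModuleCat.ofHom (φ.hom.baseChange A'))) B (θ M B x) =
        θ N B (ap ((Adeq.underline A).map φ) (rB (A := A) B) x) := by
    intro B x
    induction x using ev_induction with
    | h0 => rw [map_zero, map_zero, map_zero, map_zero]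
    | ht b m => rfl
    | hadd x y hx hy => rw [map_add, map_add, hx, hy, map_add, map_add]
  refine good_iff.2 (adequate_iff.2 ⟨BM A' M, BM A' N, ModuleCat.ofHom (φ.hom.baseChange A'),
    mkHom (fun B => { toFun := fun x => θ M B (ap ι (rB (A := A) B) (evR F B x)), map_add' := fun x y => ?_, map_smul' := fun c x => ?_ })
      (fun {B C} f x => ?_), fun B => ⟨?_, fun y => ?_⟩⟩)
  · rw [map_add, map_add, map_add]
  · rw [evR_smul, map_smul, hsmul, RingHom.id_apply]
  · show θ M C (ap ι (rB (A := A) C) (evR F C (mp _ f x))) = _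
    rw [evR_mp, nat_ap, hnat]; rfl
  · exact (θ M B).injective.comp ((h _).1.comp (evR F B).injective)
  · obtain ⟨y, rfl⟩ := (θ M B).surjective y
    refine ((Eq.congr_left (hmap B y)).trans ((map_eq_zero_iff (θ N B) (θ N B).injective).trans ((h (rB (A := A) B)).2 y))).trans ?_
    constructor
    · rintro ⟨z, hz⟩
      refine ⟨(evR F B).symm z, ?_⟩
      rw [ap_mkHom]
      show θ M B (ap ι (rB (A := A) B) (evR F B ((evR F B).symm z))) = θ M B y
      rw [AddEquiv.apply_symm_apply, hz]
    · rintro ⟨z, hz⟩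
      rw [ap_mkHom] at hz
      exact ⟨evR F B z, (θ M B).injective hz⟩

section Push

/-- The base change algebra. -/
noncomputable abbrev bC (A' : Type u) [CommRing A'] [Algebra A A'] (B : Adeq.Alg A) : Adeq.Alg A' :=
  (Adeq.Alg.baseChange A A').obj B

/-- An `A'`-module as an `A`-module. -/
noncomputable abbrev RM (A : Type u) {A' : Type u} [CommRing A] [CommRing A'] [Algebra A A'] (M : ModuleCat.{u + 1} A') :
    ModuleCat.{u + 1} A := (ModuleCat.restrictScalars (algebraMap A A')).obj M

variable (M : ModuleCat.{u + 1} A')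

/-- An element as an element of the restricted module. -/
def toRM (x : M) : RM A M := x

/-- Cancellation of base change, the other way round. -/
noncomputable def π (B : Adeq.Alg A) : (U M).obj (Adeq.pt (bC A' B)) ≃+ (U (RM A M)).obj (Adeq.pt B) :=
  letI : Module A M := inferInstanceAs (Module A (RM A M))
  haveI : IsScalarTower A A' M := IsScalarTower.of_algebraMap_smul fun _ _ => rfl
  (ev (bC A' B)).trans ((TensorProduct.comm A' _ _).toAddEquiv.trans
    ((AlgebraTensorModule.cancelBaseChange A A' A' M (B : Type u)).toAddEquiv.trans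
      ((TensorProduct.comm A _ _).toAddEquiv.trans (ev (M := RM A M) B).symm)))

theorem π_tmul (B : Adeq.Alg A) (a : A') (b : (B : Type u)) (m : M) :
    ev (M := RM A M) B (π M B ((ev (bC A' B)).symm ((a ⊗ₜ[A] b) ⊗ₜ m))) = b ⊗ₜ toRM M (a • m) := rfl

theorem push_induction {B : Adeq.Alg A} {p : (U M).obj (Adeq.pt (bC A' B)) → Prop} (x : (U M).obj (Adeq.pt (bC A' B)))
    (h0 : p 0) (ht : ∀ (a : A') (b : (B : Type u)) (m : M), p ((ev (bC A' B)).symm ((a ⊗ₜ[A] b) ⊗ₜ m)))
    (hadd : ∀ x y, p x → p y → p (x + y)) : p x := by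
  refine ev_induction x h0 (fun c n => ?_) hadd
  induction c using TensorProduct.induction_on with
  | zero => rw [TensorProduct.zero_tmul, map_zero]; exact h0
  | tmul a b => exact ht a b n
  | add x y hx hy => rw [TensorProduct.add_tmul, map_add]; exact hadd _ _ hx hy

variable {G : Adeq.MVF A'}

/-- The value of a pushforward. -/
noncomputable def evP' (G : Adeq.MVF A') (B : Adeq.Alg A) :
    ((Adeq.push A A').obj G).obj (Adeq.pt B) ≃+ G.obj (Adeq.pt (bC A' B)) :=
  { toFun := fun x => x, invFun := fun x => x, left_inv := fun _ => rfl, right_inv := fun _ => rfl,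
    map_add' := fun _ _ => rfl }

theorem evP'_smul (B : Adeq.Alg A) (c : (B : Type u)) (x : ((Adeq.push A A').obj G).obj (Adeq.pt B)) :
    evP' G B (c • x) = ((1 : A') ⊗ₜ[A] c : (bC A' B : Type u)) • evP' G B x := rfl

theorem evP'_mp {B C : Adeq.Alg A} (f : B ⟶ C) (x : ((Adeq.push A A').obj G).obj (Adeq.pt B)) :
    evP' G C (mp ((Adeq.push A A').obj G) f x) = mp G ((Adeq.Alg.baseChange A A').map f) (evP' G B x) := rfl

theorem good_push (hG : Good G) : Good ((Adeq.push A A').obj G) := by
  obtain ⟨M, N, φ, ι, h⟩ := adequate_iff.1 (good_iff.1 hG)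
  have hsmul : ∀ (M : ModuleCat.{u + 1} A') (B : Adeq.Alg A) (c : (B : Type u)) (x : (U M).obj (Adeq.pt (bC A' B))),
      π M B (((1 : A') ⊗ₜ[A] c : (bC A' B : Type u)) • x) = c • π M B x := by
    intro M B c x
    induction x using push_induction M with
    | h0 => simp
    | ht a b m =>
      refine (ev (M := RM A M) B).injective ?_
      have e1 : ((1 : A') ⊗ₜ[A] c : (bC A' B : Type u)) • (ev (bC A' B)).symm ((a ⊗ₜ[A] b) ⊗ₜ m) =
          (ev (bC A' B)).symm ((a ⊗ₜ[A] (c * b)) ⊗ₜ m) := (ev (bC A' B)).injective (by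
        rw [ev_smul, AddEquiv.apply_symm_apply, AddEquiv.apply_symm_apply, LinearMap.rTensor_tmul,
          LinearMap.mulLeft_apply, Algebra.TensorProduct.tmul_mul_tmul, one_mul])
      rw [e1, π_tmul, ev_smul, π_tmul, LinearMap.rTensor_tmul, LinearMap.mulLeft_apply]
    | hadd x y hx hy => rw [smul_add, map_add, map_add, hx, hy, smul_add]
  have hnat : ∀ (M : ModuleCat.{u + 1} A') {B C : Adeq.Alg A} (f : B ⟶ C) (x : (U M).obj (Adeq.pt (bC A' B))),
      π M C (mp (U M) ((Adeq.Alg.baseChange A A').map f) x) = mp (U (RM A M)) f (π M B x) := by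
    intro M B C f x
    induction x using push_induction M with
    | h0 => simp
    | ht a b m => rfl
    | hadd x y hx hy => rw [map_add, map_add, hx, hy, map_add, map_add]
  have hmap : ∀ (B : Adeq.Alg A) (x : (U M).obj (Adeq.pt (bC A' B))),
      ap ((Adeq.underline A).map ((ModuleCat.restrictScalars (algebraMap A A')).map φ)) B (π M B x) =
        π N B (ap ((Adeq.underline A').map φ) (bC A' B) x) := by
    intro B x
    induction x using push_induction M with
    | h0 => rw [map_zero, map_zero, map_zero, map_zero]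
    | ht a b m =>
      refine (ev (M := RM A N) B).injective ?_
      show b ⊗ₜ[A] toRM N (φ.hom (a • m)) = b ⊗ₜ[A] toRM N (a • φ.hom m)
      rw [map_smul]
    | hadd x y hx hy => rw [map_add, map_add, hx, hy, map_add, map_add]
  refine good_iff.2 (adequate_iff.2 ⟨RM A M, RM A N, (ModuleCat.restrictScalars (algebraMap A A')).map φ,
    mkHom (fun B => { toFun := fun x => π M B (ap ι (bC A' B) (evP' G B x)), map_add' := fun x y => ?_, map_smul' := fun c x => ?_ })
      (fun {B C} f x => ?_), fun B => ⟨?_, fun y => ?_⟩⟩)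
  · rw [map_add, map_add, map_add]
  · rw [evP'_smul, map_smul, hsmul, RingHom.id_apply]
  · show π M C (ap ι (bC A' C) (evP' G C (mp _ f x))) = _
    rw [evP'_mp, nat_ap, hnat]; rfl
  · exact (π M B).injective.comp ((h _).1.comp (evP' G B).injective)
  · obtain ⟨y, rfl⟩ := (π M B).surjective y
    refine ((Eq.congr_left (hmap B y)).trans ((map_eq_zero_iff (π N B) (π N B).injective).trans ((h (bC A' B)).2 y))).trans ?_
    constructor
    · rintro ⟨z, hz⟩
      refine ⟨(evP' G B).symm z, ?_⟩
      rw [ap_mkHom]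
      show π M B (ap ι (bC A' B) (evP' G B ((evP' G B).symm z))) = π M B y
      rw [AddEquiv.apply_symm_apply, hz]
    · rintro ⟨z, hz⟩
      rw [ap_mkHom] at hz
      exact ⟨evP' G B z, (π M B).injective hz⟩

end Push

section Descent

/-- The composite of restriction and pushforward. -/
noncomputable abbrev PR (A' : Type u) [CommRing A'] [Algebra A A'] : Adeq.MVF A ⥤ Adeq.MVF A :=
  Adeq.restr A A' ⋙ Adeq.push A A'

/-- The unit map. -/
noncomputable def unitHom (F : Adeq.MVF A) : F ⟶ (PR A').obj F :=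
  mkHom (fun B =>
    { toFun := fun x => (evP' _ B).symm ((evR F (bC A' B)).symm (mp F (Adeq.Alg.unit A A' B) x))
      map_add' := fun x y => by rw [map_add, map_add, map_add]
      map_smul' := fun c x => by
        refine ((evP' _ B).symm_apply_eq).2 ?_
        rw [RingHom.id_apply, evP'_smul, AddEquiv.apply_symm_apply]
        refine ((evR F (bC A' B)).symm_apply_eq).2 ?_
        rw [evR_smul, AddEquiv.apply_symm_apply, mp_smul]
        rfl })
    (fun {B C} f x => by
      have h : f ≫ Adeq.Alg.unit A A' C =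
          Adeq.Alg.unit A A' B ≫ (Adeq.Alg.restr A A').map ((Adeq.Alg.baseChange A A').map f) :=
        CommAlgCat.hom_ext (DFunLike.ext _ _ fun b => rfl)
      show mp F (Adeq.Alg.unit A A' C) (mp F f x) =
        mp F ((Adeq.Alg.restr A A').map ((Adeq.Alg.baseChange A A').map f)) (mp F (Adeq.Alg.unit A A' B) x)
      rw [mp_comp, mp_comp, h])

set_option maxHeartbeats 1000000 in
theorem good_of_descent (h₁ : Good ((Adeq.restr A A').obj F))
    (h₂ : ∀ B : Adeq.Alg A, Function.Injective (mp F (Adeq.Alg.unit A A' B)) ∧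
      ∀ y : F.obj (Adeq.pt (rB (A := A) (bC A' B))),
        mp F (Adeq.Alg.unit A A' (rB (A := A) (bC A' B))) y =
          mp F ((Adeq.Alg.restr A A').map ((Adeq.Alg.baseChange A A').map (Adeq.Alg.unit A A' B))) y →
        y ∈ Set.range (mp F (Adeq.Alg.unit A A' B))) : Good F := by
  have hG : Good ((PR A').obj F) := good_push h₁
  have hGG : Good ((PR A').obj ((PR A').obj F)) := good_push (G := (Adeq.restr A A').obj ((PR A').obj F)) (good_restr hG)
  let d₁ : (PR A').obj F ⟶ (PR A').obj ((PR A').obj F) := (PR A').map (unitHom F)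
  let d₂ : (PR A').obj F ⟶ (PR A').obj ((PR A').obj F) := unitHom ((PR A').obj F)
  refine good_of_kernel hG (unitHom F) (d₁ - d₂) (fun C => (hGG.poly C).1) hGG.rel
    fun B => ⟨(h₂ B).1, fun y => ?_⟩
  have hd₁ : ap d₁ B y = (mp F (Adeq.Alg.unit A A' (rB (A := A) (bC A' B))) (evR F _ (evP' _ B y)) :) := rfl
  have hd₂ : ap d₂ B y = (mp F ((Adeq.Alg.restr A A').map ((Adeq.Alg.baseChange A A').map (Adeq.Alg.unit A A' B)))
      (evR F _ (evP' _ B y)) :) := rfl
  rw [show ap (d₁ - d₂) B y = ap d₁ B y - ap d₂ B y from rfl, sub_eq_zero, hd₁, hd₂]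
  constructor
  · intro e
    obtain ⟨x, hx⟩ := (h₂ B).2 _ e
    exact ⟨x, hx⟩
  · rintro ⟨x, rfl⟩
    have h : Adeq.Alg.unit A A' B ≫ Adeq.Alg.unit A A' (rB (A := A) (bC A' B)) = Adeq.Alg.unit A A' B ≫
        (Adeq.Alg.restr A A').map ((Adeq.Alg.baseChange A A').map (Adeq.Alg.unit A A' B)) :=
      CommAlgCat.hom_ext (DFunLike.ext _ _ fun b => rfl)
    show mp F _ (mp F (Adeq.Alg.unit A A' B) x) = mp F _ (mp F (Adeq.Alg.unit A A' B) x)
    exact (mp_comp _ _ x).trans ((congrArg (fun w => mp F w x) h).trans (mp_comp _ _ x).symm)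

end Descent

end Groth.Agent.AdeqFound
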