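import Groth.Prelude.Def_Adeq
import Mathlib.LinearAlgebra.SymmetricAlgebra.Basic
import Mathlib.Algebra.TrivSqZeroExt.Basic
import Mathlib.RingTheory.Polynomial.Basic
import Mathlib.RingTheory.PolynomialAlgebra
import Mathlib.Algebra.Module.FinitePresentation
import Mathlib.LinearAlgebra.TensorProduct.RightExactness
import Mathlib.Algebra.Category.ModuleCat.Presheaf.Limits
import Mathlib.Algebra.Category.ModuleCat.Presheaf.Colimits
import Mathlib.Algebra.Homology.ShortComplex.Ab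
import Mathlib.Algebra.Homology.ShortComplex.ModuleCat
import Mathlib.Algebra.Homology.ShortComplex.ExactFunctor

/-!
# Module valued functors on algebras: linear families and values on polynomial algebras
-/

set_option autoImplicit false

universe u

open CategoryTheory Limits TensorProduct Opposite

namespace Groth.Agent.AdeqFound

variable {A : Type u} [CommRing A]

/-- The module valued functor of a module. -/
noncomputable abbrev U (M : ModuleCat.{u + 1} A) : Adeq.MVF A := (Adeq.underline A).obj M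

/-- The component of a morphism at an algebra. -/
noncomputable abbrev ap {F G : Adeq.MVF A} (φ : F ⟶ G) (B : Adeq.Alg A) :
    F.obj (Adeq.pt B) →ₗ[(B : Type u)] G.obj (Adeq.pt B) := (φ.app (Adeq.pt B)).hom

/-- The transition map. -/
noncomputable def mp (F : Adeq.MVF A) {B C : Adeq.Alg A} (f : B ⟶ C) : F.obj (Adeq.pt B) →+ F.obj (Adeq.pt C) where
  toFun x := F.map (Adeq.ptHom f) x
  map_zero' := map_zero (F.map (Adeq.ptHom f)).hom
  map_add' := map_add (F.map (Adeq.ptHom f)).hom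

variable {F G : Adeq.MVF A} {B C D : Adeq.Alg A}

theorem mp_comp (f : B ⟶ C) (g : C ⟶ D) (x : F.obj (Adeq.pt B)) : mp F g (mp F f x) = mp F (f ≫ g) x :=
  (F.map_comp_apply (Adeq.ptHom f) (Adeq.ptHom g) x).symm

theorem mp_id (x : F.obj (Adeq.pt B)) : mp F (𝟙 B) x = x := by
  show F.map (𝟙 (Adeq.pt B)) x = x
  rw [F.map_id]; rfl

theorem mp_smul (f : B ⟶ C) (b : B) (x : F.obj (Adeq.pt B)) : mp F f (b • x) = f.hom b • mp F f x :=
  PresheafOfModules.map_smul F (Adeq.ptHom f) b x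

theorem nat_ap (φ : F ⟶ G) (f : B ⟶ C) (x : F.obj (Adeq.pt B)) : ap φ C (mp F f x) = mp G f (ap φ B x) :=
  PresheafOfModules.naturality_apply φ (Adeq.ptHom f) x

theorem hom_ext {φ ψ : F ⟶ G} (h : ∀ B x, ap φ B x = ap ψ B x) : φ = ψ := by
  ext X x
  exact h X.unop.unop x

theorem ap_comp {H : Adeq.MVF A} (φ : F ⟶ G) (ψ : G ⟶ H) (B : Adeq.Alg A) (x : F.obj (Adeq.pt B)) :
    ap (φ ≫ ψ) B x = ap ψ B (ap φ B x) := rfl

/-- Constructor for morphisms. -/
noncomputable def mkHom (app : ∀ B : Adeq.Alg A, F.obj (Adeq.pt B) →ₗ[(B : Type u)] G.obj (Adeq.pt B))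
    (h : ∀ {B C : Adeq.Alg A} (f : B ⟶ C) x, app C (mp F f x) = mp G f (app B x)) : F ⟶ G :=
  PresheafOfModules.homMk
    { app X := AddCommGrpCat.ofHom (app X.unop.unop).toAddMonoidHom
      naturality {X Y} f := by
        ext x
        exact h f.unop.unop x }
    (fun X r m => (app X.unop.unop).map_smul r m)

@[simp] theorem ap_mkHom (app : ∀ B : Adeq.Alg A, F.obj (Adeq.pt B) →ₗ[(B : Type u)] G.obj (Adeq.pt B))
    (h : ∀ {B C : Adeq.Alg A} (f : B ⟶ C) x, app C (mp F f x) = mp G f (app B x)) (B : Adeq.Alg A) (x : F.obj (Adeq.pt B)) :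
    ap (mkHom app h) B x = app B x := rfl

theorem isIso_of_bijective (φ : F ⟶ G) (h : ∀ B, Function.Bijective (ap φ B)) : IsIso φ := by
  haveI : Mono φ := PresheafOfModules.mono_of_injective fun X => (h X.unop.unop).1
  haveI : Epi φ := PresheafOfModules.epi_of_surjective fun X => (h X.unop.unop).2
  exact isIso_of_mono_of_epi φ

theorem ap_inj_of_mono (φ : F ⟶ G) [Mono φ] (B : Adeq.Alg A) : Function.Injective (ap φ B) :=
  PresheafOfModules.injective_of_mono φ (Adeq.pt B)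

theorem ap_surj_of_epi (φ : F ⟶ G) [Epi φ] (B : Adeq.Alg A) : Function.Surjective (ap φ B) :=
  PresheafOfModules.surjective_of_epi φ (Adeq.pt B)

theorem exact_ap (S : ShortComplex (Adeq.MVF A)) (hS : S.Exact) (B : Adeq.Alg A) :
    Function.Exact (ap S.f B) (ap S.g B) := by
  haveI : (PresheafOfModules.evaluation.{u + 1} (Adeq.ringOf A) (Adeq.pt B)).Additive := ⟨fun {_ _ _ _} => rfl⟩
  haveI : PreservesFiniteLimits (PresheafOfModules.evaluation.{u + 1} (Adeq.ringOf A) (Adeq.pt B)) :=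
    ⟨fun _ _ _ => ⟨fun {F} => PresheafOfModules.evaluation_preservesLimit F _⟩⟩
  haveI : PreservesFiniteColimits (PresheafOfModules.evaluation.{u + 1} (Adeq.ringOf A) (Adeq.pt B)) :=
    ⟨fun _ _ _ => ⟨fun {F} => PresheafOfModules.evaluation_preservesColimit F _⟩⟩
  exact (ShortComplex.ShortExact.moduleCat_exact_iff_function_exact _).1
    (hS.map (PresheafOfModules.evaluation.{u + 1} (Adeq.ringOf A) (Adeq.pt B)))

theorem exists_kernel_pre (φ : F ⟶ G) (B : Adeq.Alg A) (x : F.obj (Adeq.pt B)) :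
    ap φ B x = 0 ↔ ∃ y, ap (kernel.ι φ) B y = x :=
  exact_ap (ShortComplex.mk (kernel.ι φ) φ (kernel.condition φ)) (ShortComplex.exact_kernel φ) B x

theorem ap_cokernel_eq_zero (φ : F ⟶ G) (B : Adeq.Alg A) (x : G.obj (Adeq.pt B)) :
    ap (cokernel.π φ) B x = 0 ↔ ∃ y, ap φ B y = x :=
  exact_ap (ShortComplex.mk φ (cokernel.π φ) (cokernel.condition φ)) (ShortComplex.exact_cokernel φ) B x

/-- Adequate functors in terms of elements. -/
theorem adequate_iff : Adeq.adequate A F ↔ ∃ (M N : ModuleCat.{u + 1} A) (φ : M ⟶ N) (ι : F ⟶ U M),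
    ∀ B, Function.Injective (ap ι B) ∧ ∀ x, ap ((Adeq.underline A).map φ) B x = 0 ↔ ∃ y, ap ι B y = x := by
  constructor
  · rintro ⟨M, N, φ, ⟨e⟩⟩
    refine ⟨M, N, φ, e.hom ≫ kernel.ι _, fun B => ⟨?_, fun x => ?_⟩⟩
    · exact (ap_inj_of_mono _ B)
    · rw [exists_kernel_pre]
      refine ⟨fun ⟨y, hy⟩ => ⟨ap e.inv B y, ?_⟩, fun ⟨y, hy⟩ => ⟨ap e.hom B y, hy⟩⟩
      rw [← ap_comp, e.inv_hom_id_assoc, hy]
  · rintro ⟨M, N, φ, ι, h⟩
    have hι : ι ≫ (Adeq.underline A).map φ = 0 := hom_ext fun B x => ((h B).2 _).2 ⟨x, rfl⟩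
    refine ⟨M, N, φ, ⟨@asIso _ _ _ _ (kernel.lift _ ι hι) (isIso_of_bijective _ fun B => ?_)⟩⟩
    have hc : ∀ x, ap (kernel.ι ((Adeq.underline A).map φ)) B (ap (kernel.lift _ ι hι) B x) = ap ι B x := fun x => by
      rw [← ap_comp, kernel.lift_ι]
    refine ⟨fun x y e => (h B).1 (by rw [← hc, e, hc]), fun y => ?_⟩
    obtain ⟨x, hx⟩ := ((h B).2 _).1 ((exists_kernel_pre _ B _).2 ⟨y, rfl⟩)
    exact ⟨x, ap_inj_of_mono _ B ((hc x).trans hx)⟩

@[simp] theorem ap_underline {M N : ModuleCat.{u + 1} A} (g : M ⟶ N) (B : Adeq.Alg A)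
    (x : (B : Type u) ⊗[A] M) : ap ((Adeq.underline A).map g) B x = g.hom.baseChange B x := rfl

theorem mp_underline {M : ModuleCat.{u + 1} A} (f : B ⟶ C) (x : (B : Type u) ⊗[A] M) :
    mp (U M) f x = f.hom.toLinearMap.rTensor M x := rfl

/-- A linear family of elements indexed by linear maps out of `Q`. -/
@[ext]
structure Lin (Q : Type u) [AddCommGroup Q] [Module A Q] (F : Adeq.MVF A) where
  /-- the values -/
  app : ∀ C : Adeq.Alg A, (Q →ₗ[A] (C : Type u)) → F.obj (Adeq.pt C)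
  nat : ∀ {C D : Adeq.Alg A} (f : C ⟶ D) (h : Q →ₗ[A] (C : Type u)), mp F f (app C h) = app D (f.hom.toLinearMap ∘ₗ h)
  add : ∀ {C : Adeq.Alg A} (h h' : Q →ₗ[A] (C : Type u)), app C (h + h') = app C h + app C h'
  smul : ∀ {C : Adeq.Alg A} (c : C) (h : Q →ₗ[A] (C : Type u)), app C (c • h) = c • app C h

variable {Q Q' Q'' : Type u} [AddCommGroup Q] [Module A Q] [AddCommGroup Q'] [Module A Q'] [AddCommGroup Q''] [Module A Q'']

namespace Lin

noncomputable instance : Zero (Lin Q F) :=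
  ⟨⟨fun _ _ => 0, fun f _ => map_zero (mp F f), fun _ _ => (add_zero 0).symm, fun c _ => (smul_zero c).symm⟩⟩

noncomputable instance : Add (Lin Q F) :=
  ⟨fun ξ η => ⟨fun C h => ξ.app C h + η.app C h, fun f h => by rw [map_add, ξ.nat, η.nat],
    fun h h' => by rw [ξ.add, η.add]; exact add_add_add_comm _ _ _ _, fun c h => by rw [ξ.smul, η.smul, smul_add]⟩⟩

noncomputable instance : Neg (Lin Q F) :=
  ⟨fun ξ => ⟨fun C h => -ξ.app C h, fun f h => by rw [map_neg, ξ.nat],
    fun h h' => by rw [ξ.add]; exact neg_add _ _, fun c h => by rw [ξ.smul, smul_neg]⟩⟩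

@[simp] theorem zero_app (C : Adeq.Alg A) (h : Q →ₗ[A] (C : Type u)) : (0 : Lin Q F).app C h = 0 := rfl
@[simp] theorem add_app (ξ η : Lin Q F) (C : Adeq.Alg A) (h : Q →ₗ[A] (C : Type u)) :
    (ξ + η).app C h = ξ.app C h + η.app C h := rfl
@[simp] theorem neg_app (ξ : Lin Q F) (C : Adeq.Alg A) (h : Q →ₗ[A] (C : Type u)) : (-ξ).app C h = -ξ.app C h := rfl

noncomputable instance : AddCommGroup (Lin Q F) where
  add_assoc a b c := Lin.ext (funext fun C => funext fun h => add_assoc _ _ _)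
  zero_add a := Lin.ext (funext fun C => funext fun h => zero_add _)
  add_zero a := Lin.ext (funext fun C => funext fun h => add_zero _)
  add_comm a b := Lin.ext (funext fun C => funext fun h => add_comm _ _)
  neg_add_cancel a := Lin.ext (funext fun C => funext fun h => neg_add_cancel _)
  nsmul := nsmulRec
  zsmul := zsmulRec

theorem app_zero (ξ : Lin Q F) (C : Adeq.Alg A) : ξ.app C 0 = 0 := by
  have := ξ.smul (0 : C) (0 : Q →ₗ[A] (C : Type u))
  rwa [zero_smul, zero_smul] at this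

/-- Push forward along a linear map. -/
noncomputable def push (T : Q →ₗ[A] Q') : Lin Q F →+ Lin Q' F where
  toFun ξ := ⟨fun C h => ξ.app C (h ∘ₗ T), fun f h => ξ.nat f _,
    fun h h' => by rw [LinearMap.add_comp, ξ.add], fun c h => by rw [LinearMap.smul_comp, ξ.smul]⟩
  map_zero' := rfl
  map_add' _ _ := rfl

@[simp] theorem push_app (T : Q →ₗ[A] Q') (ξ : Lin Q F) (C : Adeq.Alg A) (h : Q' →ₗ[A] (C : Type u)) :
    (push T ξ).app C h = ξ.app C (h ∘ₗ T) := rfl

theorem push_push (T : Q →ₗ[A] Q') (T' : Q' →ₗ[A] Q'') (ξ : Lin Q F) : push T' (push T ξ) = push (T' ∘ₗ T) ξ := rfl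

theorem push_add (T T' : Q →ₗ[A] Q') (ξ : Lin Q F) : push (T + T') ξ = push T ξ + push T' ξ :=
  Lin.ext (funext fun C => funext fun h => by
    show ξ.app C (h ∘ₗ (T + T')) = _
    rw [LinearMap.comp_add, ξ.add]; rfl)

/-- Composition with a morphism. -/
noncomputable def post (φ : F ⟶ G) : Lin Q F →+ Lin Q G where
  toFun ξ := ⟨fun C h => ap φ C (ξ.app C h), fun f h => by rw [← nat_ap, ξ.nat],
    fun h h' => by rw [ξ.add, map_add], fun c h => by rw [ξ.smul, map_smul]⟩
  map_zero' := Lin.ext (funext fun C => funext fun h => map_zero (ap φ C))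
  map_add' _ _ := Lin.ext (funext fun C => funext fun h => map_add (ap φ C) _ _)

@[simp] theorem post_app (φ : F ⟶ G) (ξ : Lin Q F) (C : Adeq.Alg A) (h : Q →ₗ[A] (C : Type u)) :
    (post φ ξ).app C h = ap φ C (ξ.app C h) := rfl

theorem post_injective (φ : F ⟶ G) (hφ : ∀ B, Function.Injective (ap φ B)) :
    Function.Injective (post (Q := Q) φ) :=
  fun ξ η e => Lin.ext (funext fun C => funext fun h => hφ C (congrArg (fun z => z.app C h) e))

theorem exists_post_eq (φ : F ⟶ G) (hφ : ∀ B, Function.Injective (ap φ B)) (ξ : Lin Q G)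
    (h : ∀ C g, ∃ y, ap φ C y = ξ.app C g) : ∃ η : Lin Q F, post φ η = ξ := by
  choose y hy using h
  refine ⟨⟨y, fun {C D} f g => hφ D (by rw [nat_ap, hy, hy, ξ.nat]),
    fun {C} g g' => hφ C (by rw [map_add, hy, hy, hy, ξ.add]),
    fun {C} c g => hφ C (by rw [map_smul, hy, hy, ξ.smul])⟩, Lin.ext (funext fun C => funext fun g => hy C g)⟩

end Lin

/-- The symmetric algebra of a module as a test algebra. -/
noncomputable abbrev Sy (A : Type u) [CommRing A] (Q : Type u) [AddCommGroup Q] [Module A Q] : Adeq.Alg A :=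
  Adeq.algOf A (SymmetricAlgebra A Q)

/-- The tautological linear map. -/
noncomputable abbrev ιS (A : Type u) [CommRing A] (Q : Type u) [AddCommGroup Q] [Module A Q] :
    Q →ₗ[A] (Sy A Q : Type u) := SymmetricAlgebra.ι A Q

/-- The algebra map extending a linear map. -/
noncomputable def ψ (h : Q →ₗ[A] (C : Type u)) : Sy A Q ⟶ C := CommAlgCat.ofHom (SymmetricAlgebra.lift h)

theorem ψ_ι (h : Q →ₗ[A] (C : Type u)) : (ψ h).hom.toLinearMap ∘ₗ ιS A Q = h :=
  SymmetricAlgebra.lift_comp_ι h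

theorem ψ_comp (h : Q →ₗ[A] (C : Type u)) (f : C ⟶ D) : ψ h ≫ f = ψ (f.hom.toLinearMap ∘ₗ h) := by
  refine CommAlgCat.hom_ext (SymmetricAlgebra.algHom_ext (LinearMap.ext fun x => ?_))
  show f.hom (SymmetricAlgebra.lift h (SymmetricAlgebra.ι A Q x)) = SymmetricAlgebra.lift _ (SymmetricAlgebra.ι A Q x)
  rw [SymmetricAlgebra.lift_ι_apply, SymmetricAlgebra.lift_ι_apply]; rfl

theorem Lin.app_eq (ξ : Lin Q F) (h : Q →ₗ[A] (C : Type u)) : ξ.app C h = mp F (ψ h) (ξ.app (Sy A Q) (ιS A Q)) := by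
  rw [ξ.nat, ψ_ι]

/-- Polynomial algebra. -/
noncomputable abbrev Po (C : Adeq.Alg A) : Adeq.Alg A := Adeq.algOf A (Polynomial (C : Type u))

/-- The inclusion of constants. -/
noncomputable def inc (C : Adeq.Alg A) : C ⟶ Po C := CommAlgCat.ofHom (IsScalarTower.toAlgHom A (C : Type u) _)

/-- `∑ Xᵏ x_k`. -/
noncomputable def psum (F : Adeq.MVF A) (C : Adeq.Alg A) : (ℕ →₀ F.obj (Adeq.pt C)) →+ F.obj (Adeq.pt (Po C)) :=
  Finsupp.liftAddHom fun k =>
    (DistribSMul.toAddMonoidHom (F.obj (Adeq.pt (Po C))) ((Polynomial.X : Polynomial (C : Type u)) ^ k : (Po C : Type u))).comp (mp F (inc C))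

theorem psum_single (C : Adeq.Alg A) (k : ℕ) (x : F.obj (Adeq.pt C)) :
    psum F C (Finsupp.single k x) = ((Polynomial.X : Polynomial (C : Type u)) ^ k : (Po C : Type u)) • mp F (inc C) x :=
  Finsupp.liftAddHom_apply_single _ _ _

theorem psum_nat (φ : F ⟶ G) (C : Adeq.Alg A) (x : ℕ →₀ F.obj (Adeq.pt C)) :
    ap φ (Po C) (psum F C x) = psum G C (Finsupp.mapRange (ap φ C) (map_zero _) x) := by
  induction x using Finsupp.induction_linear with
  | zero => simp
  | add x y hx hy => rw [map_add, map_add, hx, hy, Finsupp.mapRange_add (map_add _), map_add]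
  | single k x => rw [psum_single, map_smul, nat_ap, Finsupp.mapRange_single, psum_single]

/-- `F(C[X]) = F(C)[X]`. -/
def Poly (F : Adeq.MVF A) : Prop := ∀ C, Function.Bijective (psum F C)

theorem Poly.of_kernel (ι : F ⟶ G) {H : Adeq.MVF A} (φ : G ⟶ H)
    (h : ∀ B, Function.Injective (ap ι B) ∧ ∀ x, ap φ B x = 0 ↔ ∃ y, ap ι B y = x)
    (hG : Poly G) (hH : ∀ C, Function.Injective (psum H C)) : Poly F := by
  intro C
  constructor
  · intro x y e
    have := (hG C).1 ((psum_nat ι C x).symm.trans ((congrArg (ap ι (Po C)) e).trans (psum_nat ι C y)))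
    exact Finsupp.mapRange_injective _ (map_zero _) (h C).1 this
  · intro z
    obtain ⟨x, hx⟩ := (hG C).2 (ap ι (Po C) z)
    have h0 : Finsupp.mapRange (ap φ C) (map_zero _) x = 0 := hH C (by
      rw [← psum_nat, hx, map_zero]; exact ((h (Po C)).2 _).2 ⟨z, rfl⟩)
    have h1 : ∀ k, ∃ y, ap ι C y = x k := fun k => ((h C).2 _).1 (by simpa using congrArg (fun w => w k) h0)
    choose y hy using h1
    refine ⟨Finsupp.onFinset x.support y fun k hk => Finsupp.mem_support_iff.2 fun e => hk ((h C).1 (by rw [hy, e, map_zero])), ?_⟩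
    refine (h (Po C)).1 ?_
    rw [psum_nat, ← hx]
    congr 1
    ext k
    simp [hy]

end Groth.Agent.AdeqFound
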