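import Groth.Agent.AdeqFound.Embed
import Mathlib.Algebra.Category.ModuleCat.Colimits

/-!
# Closure properties of adequate functors
-/

set_option autoImplicit false

universe u

open CategoryTheory Limits TensorProduct Opposite

namespace Groth.Agent.AdeqFound

variable {A : Type u} [CommRing A] {F G H : Adeq.MVF A}

/-- The kernel of a morphism from a good functor to one with injective polynomial values is good. -/
theorem good_of_kernel (hF : Good F) (ι : G ⟶ F) (φ : F ⟶ H) (hH : ∀ C, Function.Injective (psum H C))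
    (hHrel : ∀ (Q : ModuleCat.{u} A) [Module.FinitePresentation A Q] (ξ : Lin Q H) (B : Adeq.Alg A)
      (b : Q →ₗ[A] (B : Type u)), ξ.app B b = 0 → ∃ (Q' : ModuleCat.{u} A) (_ : Module.FinitePresentation A Q')
        (T : Q →ₗ[A] Q') (b' : Q' →ₗ[A] (B : Type u)), b' ∘ₗ T = b ∧ Lin.push T ξ = 0)
    (h : ∀ B, Function.Injective (ap ι B) ∧ ∀ x, ap φ B x = 0 ↔ ∃ y, ap ι B y = x) : Good G := by
  refine ⟨fun B x => ?_, fun Q _ ξ B b hb => ?_, Poly.of_kernel ι φ h hF.poly hH⟩
  · obtain ⟨Q, hQ, η, b, hb⟩ := hF.gen B (ap ι B x)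
    haveI := hQ
    have h0 : (Lin.post φ η).app B b = 0 := by rw [Lin.post_app, hb]; exact ((h B).2 _).2 ⟨x, rfl⟩
    obtain ⟨Q', hQ', T, b', hT, hT0⟩ := hHrel Q _ B b h0
    obtain ⟨ζ, hζ⟩ := Lin.exists_post_eq ι (fun C => (h C).1) (Lin.push T η) fun C g => ((h C).2 _).1 (by
      have := congrArg (fun w => w.app C g) hT0
      simpa using this)
    refine ⟨Q', hQ', ζ, b', (h B).1 ?_⟩
    rw [← Lin.post_app ι ζ B b', hζ, Lin.push_app, hT, hb]
  · obtain ⟨Q', hQ', T, b', hT, hT0⟩ := hF.rel Q (Lin.post ι ξ) B b (by rw [Lin.post_app, hb, map_zero])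
    refine ⟨Q', hQ', T, b', hT, Lin.post_injective ι (fun C => (h C).1) ?_⟩
    rw [map_zero, ← hT0]; rfl

theorem good_kernel (hF : Good F) (hG : Good G) (φ : F ⟶ G) : Good (kernel φ) :=
  good_of_kernel hF (kernel.ι φ) φ (fun C => (hG.poly C).1) hG.rel fun B =>
    ⟨ap_inj_of_mono _ B, exists_kernel_pre φ B⟩

theorem psum_eq_mapRange_surj (π : F ⟶ G) (C : Adeq.Alg A) (hF : Function.Surjective (psum F C))
    (hπ : ∀ B, Function.Surjective (ap π B)) : Function.Surjective (psum G C) := fun z => by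
  obtain ⟨w, rfl⟩ := hπ (Po C) z
  obtain ⟨x, rfl⟩ := hF w
  exact ⟨_, (psum_nat π C x).symm⟩

/-- A cokernel of good functors is good. -/
theorem good_of_cokernel (hF : Good F) (hG : Good G) (φ : F ⟶ G) (π : G ⟶ H)
    (hπ : ∀ B, Function.Surjective (ap π B)) (hex : ∀ B x, ap π B x = 0 ↔ ∃ y, ap φ B y = x) : Good H := by
  classical
  have hgen : ∀ (B : Adeq.Alg A) (x : H.obj (Adeq.pt B)), ∃ (Q : ModuleCat.{u} A) (_ : Module.FinitePresentation A Q)
      (ξ : Lin Q G) (b : Q →ₗ[A] (B : Type u)), ap π B (ξ.app B b) = x := by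
    intro B x
    obtain ⟨y, rfl⟩ := hπ B x
    obtain ⟨Q, hQ, ξ, b, rfl⟩ := hG.gen B y
    exact ⟨Q, hQ, ξ, b, rfl⟩
  have hinj : ∀ C, Function.Injective (psum H C) := by
    intro C
    refine (injective_iff_map_eq_zero _).2 fun x hx => ?_
    have hx' : ∀ k, ∃ y, ap π C y = x k := fun k => hπ C (x k)
    choose y hy using hx'
    let y' : ℕ →₀ G.obj (Adeq.pt C) := ∑ k ∈ x.support, Finsupp.single k (y k)
    have hy' : Finsupp.mapRange (ap π C) (map_zero _) y' = x := by
      ext k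
      rw [Finsupp.mapRange_apply, Finsupp.finsetSum_apply]
      by_cases hk : k ∈ x.support
      · rw [Finset.sum_eq_single k (fun l _ hl => Finsupp.single_eq_of_ne (Ne.symm hl)) (fun h => absurd hk h),
          Finsupp.single_eq_same, hy]
      · rw [Finset.sum_eq_zero fun l hl => Finsupp.single_eq_of_ne (by rintro rfl; exact hk hl), map_zero,
          Finsupp.notMem_support_iff.1 hk]
    obtain ⟨w, hw⟩ := (hex (Po C) (psum G C y')).1 (by rw [psum_nat, hy', hx])
    obtain ⟨v, rfl⟩ := (hF.poly C).2 w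
    rw [psum_nat] at hw
    rw [← hy', ← (hG.poly C).1 hw]
    ext k
    rw [Finsupp.mapRange_apply, Finsupp.mapRange_apply, Finsupp.coe_zero, Pi.zero_apply]
    exact (hex C _).2 ⟨_, rfl⟩
  refine ⟨fun B x => ?_, fun Q _ ξ B b hb => ?_, fun C => ⟨hinj C, psum_eq_mapRange_surj π C (hG.poly C).2 hπ⟩⟩
  · obtain ⟨Q, hQ, ξ, b, hb⟩ := hgen B x
    exact ⟨Q, hQ, Lin.post π ξ, b, hb⟩
  · obtain ⟨η, hη⟩ := exists_lift_family hgen hinj ξ.app ξ.nat ξ.app_tw
    obtain ⟨y, hy⟩ := (hex B (η.app B b)).1 ((hη B b).trans hb)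
    obtain ⟨Q₁, hQ₁, ζ, b₁, rfl⟩ := hF.gen B y
    haveI := hQ₁
    let P : ModuleCat.{u} A := ModuleCat.of A (Prod (Q : Type u) (Q₁ : Type u))
    haveI : Module.FinitePresentation A P := inferInstanceAs (Module.FinitePresentation A (Prod (Q : Type u) (Q₁ : Type u)))
    let i : Q →ₗ[A] P := LinearMap.inl A Q Q₁
    let i' : Q₁ →ₗ[A] P := LinearMap.inr A Q Q₁
    let c : P →ₗ[A] (B : Type u) := b.coprod b₁
    have hci : c ∘ₗ i = b := LinearMap.coprod_inl _ _
    have hci' : c ∘ₗ i' = b₁ := LinearMap.coprod_inr _ _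
    have h0 : (Lin.push i η + -Lin.push i' (Lin.post φ ζ)).app B c = 0 := by
      rw [Lin.add_app, Lin.neg_app, Lin.push_app, Lin.push_app, hci, hci', Lin.post_app, hy, add_neg_cancel]
    obtain ⟨R, hR, T, c', hc', hT⟩ := hG.rel P _ B c h0
    refine ⟨R, hR, T ∘ₗ i, c', by rw [← LinearMap.comp_assoc, hc', hci], Lin.ext (funext fun C => funext fun g => ?_)⟩
    rw [Lin.push_app, Lin.zero_app, ← hη]
    have h1 := congrArg (fun w => w.app C g) hT
    simp only [Lin.push_app, Lin.add_app, Lin.neg_app, Lin.zero_app, Lin.post_app] at h1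
    rw [← LinearMap.comp_assoc]
    exact (hex C _).2 ⟨_, (add_neg_eq_zero.1 h1).symm⟩

theorem good_cokernel (hF : Good F) (hG : Good G) (φ : F ⟶ G) : Good (cokernel φ) :=
  good_of_cokernel hF hG φ (cokernel.π φ) (ap_surj_of_epi _) (ap_cokernel_eq_zero φ)

/-- Good functors are adequate. -/
theorem adequate_of_good (hF : Good F) : Adeq.adequate A F := by
  obtain ⟨M, ι, hι⟩ := exists_embedding hF
  obtain ⟨N, κ, hκ⟩ := exists_embedding (good_cokernel hF (good_underline M) ι)
  obtain ⟨g, hg⟩ := exists_map_eq (cokernel.π ι ≫ κ)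
  refine adequate_iff.2 ⟨M, N, g, ι, fun B => ⟨hι B, fun x => ?_⟩⟩
  rw [hg, ap_comp, ← ap_cokernel_eq_zero ι B x]
  exact ⟨fun h => hκ B (h.trans (map_zero _).symm), fun h => by rw [h, map_zero]⟩

theorem good_iff : Good F ↔ Adeq.adequate A F := ⟨adequate_of_good, good_of_adequate⟩

section Colim

variable {J : Type (u + 1)}

theorem sigma_span (D : J → Adeq.MVF A) (B : Adeq.Alg A) (x : (∐ D).obj (Adeq.pt B)) :
    ∃ (s : Finset J) (y : ∀ j, (D j).obj (Adeq.pt B)), x = ∑ j ∈ s, ap (Sigma.ι D j) B (y j) := by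
  classical
  let R : Submodule (B : Type u) ((∐ D).obj (Adeq.pt B)) := ⨆ j, LinearMap.range (ap (Sigma.ι D j) B)
  have hR : R = ⊤ := by
    let E := PresheafOfModules.evaluation.{u + 1} (Adeq.ringOf A) (Adeq.pt B)
    haveI : PreservesColimit (Discrete.functor D) E := PresheafOfModules.evaluation_preservesColimit _ _
    have hq : (ModuleCat.ofHom R.mkQ : E.obj (∐ D) ⟶ ModuleCat.of (B : Type u) (_ ⧸ R)) = 0 := by
      refine (isColimitOfPreserves E (colimit.isColimit (Discrete.functor D))).hom_ext fun j => ?_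
      ext y
      exact (Submodule.Quotient.mk_eq_zero R).2
        (le_iSup (fun j => LinearMap.range (ap (Sigma.ι D j) B)) j.as ⟨y, rfl⟩)
    rw [eq_top_iff]
    intro y _
    exact (Submodule.Quotient.mk_eq_zero R).1 (congrArg (fun w => w.hom y) hq)
  obtain ⟨f, hf, hsum⟩ := (Submodule.mem_iSup_iff_exists_finsupp _ x).1 (hR ▸ Submodule.mem_top : x ∈ R)
  choose y hy using hf
  refine ⟨f.support, y, ?_⟩
  rw [← hsum]
  exact Finset.sum_congr rfl fun j _ => (hy j).symm

open scoped Classical in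
/-- The projections of a coproduct. -/
noncomputable def sproj (D : J → Adeq.MVF A) (j : J) : ∐ D ⟶ D j :=
  Sigma.desc fun i => if h : i = j then eqToHom (congrArg D h) else 0

open scoped Classical in
theorem sproj_ι (D : J → Adeq.MVF A) (i j : J) (B : Adeq.Alg A) (y : ∀ l, (D l).obj (Adeq.pt B)) :
    ap (sproj D j) B (ap (Sigma.ι D i) B (y i)) = if i = j then y j else 0 := by
  rw [← ap_comp, sproj, colimit.ι_desc]
  simp only [Cofan.mk_ι_app]
  split_ifs with h
  · subst h; rfl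
  · rfl

open scoped Classical in
theorem sproj_sum (D : J → Adeq.MVF A) (s : Finset J) (B : Adeq.Alg A) (y : ∀ l, (D l).obj (Adeq.pt B)) (j : J) :
    ap (sproj D j) B (∑ i ∈ s, ap (Sigma.ι D i) B (y i)) = if j ∈ s then y j else 0 := by
  rw [map_sum]
  simp only [sproj_ι, Finset.sum_ite_eq']

theorem sigma_joint_injective (D : J → Adeq.MVF A) (B : Adeq.Alg A) (x : (∐ D).obj (Adeq.pt B))
    (h : ∀ j, ap (sproj D j) B x = 0) : x = 0 := by
  classical
  obtain ⟨s, y, rfl⟩ := sigma_span D B x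
  refine Finset.sum_eq_zero fun j hj => ?_
  have := h j
  rw [sproj_sum, if_pos hj] at this
  rw [this, map_zero]

theorem exists_rel_finset (D : J → Adeq.MVF A) (hD : ∀ j, Good (D j)) (B : Adeq.Alg A) :
    ∀ (s : Finset J) (Q : ModuleCat.{u} A) (_ : Module.FinitePresentation A Q) (ξ : Lin Q (∐ D))
      (b : Q →ₗ[A] (B : Type u)), ξ.app B b = 0 → ∃ (Q' : ModuleCat.{u} A) (_ : Module.FinitePresentation A Q')
        (T : Q →ₗ[A] Q') (b' : Q' →ₗ[A] (B : Type u)), b' ∘ₗ T = b ∧ ∀ j ∈ s, Lin.post (sproj D j) (Lin.push T ξ) = 0 := by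
  classical
  intro s
  induction s using Finset.induction with
  | empty => exact fun Q hQ ξ b hb => ⟨Q, hQ, LinearMap.id, b, rfl, by simp⟩
  | insert j s hj ih =>
    intro Q hQ ξ b hb
    obtain ⟨Q₁, hQ₁, T₁, b₁, hb₁, h₁⟩ := ih Q hQ ξ b hb
    haveI := hQ₁
    obtain ⟨Q₂, hQ₂, T₂, b₂, hb₂, h₂⟩ := (hD j).rel Q₁ (Lin.post (sproj D j) (Lin.push T₁ ξ)) B b₁ (by
      rw [Lin.post_app, Lin.push_app, hb₁, hb, map_zero])
    refine ⟨Q₂, hQ₂, T₂ ∘ₗ T₁, b₂, by rw [← LinearMap.comp_assoc, hb₂, hb₁], fun i hi => ?_⟩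
    rcases Finset.mem_insert.1 hi with rfl | hi
    · exact h₂
    · have h3 := congrArg (Lin.push T₂) (h₁ i hi)
      rw [map_zero] at h3
      exact h3

/-- A coproduct of good functors is good. -/
theorem good_sigma (D : J → Adeq.MVF A) (hD : ∀ j, Good (D j)) : Good (∐ D) := by
  classical
  refine ⟨fun B x => ?_, fun Q _ ξ B b hb => ?_, fun C => ⟨?_, fun z => ?_⟩⟩
  · obtain ⟨s, y, rfl⟩ := sigma_span D B x
    induction s using Finset.induction with
    | empty => exact ⟨ModuleCat.of A PUnit.{u + 1}, inferInstance, 0, 0, by simp⟩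
    | insert j s hj ih =>
      obtain ⟨Q₁, hQ₁, η, b₁, hb₁⟩ := ih
      obtain ⟨Q₂, hQ₂, ζ, b₂, hb₂⟩ := (hD j).gen B (y j)
      haveI := hQ₁; haveI := hQ₂
      let P : ModuleCat.{u} A := ModuleCat.of A (Prod (Q₁ : Type u) (Q₂ : Type u))
      let i : Q₁ →ₗ[A] P := LinearMap.inl A Q₁ Q₂
      let i' : Q₂ →ₗ[A] P := LinearMap.inr A Q₁ Q₂
      let c : P →ₗ[A] (B : Type u) := b₁.coprod b₂
      refine ⟨P, inferInstanceAs (Module.FinitePresentation A (Prod (Q₁ : Type u) (Q₂ : Type u))),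
        Lin.push i' (Lin.post (Sigma.ι D j) ζ) + Lin.push i η, c, ?_⟩
      rw [Finset.sum_insert hj, Lin.add_app, Lin.push_app, Lin.push_app, show c ∘ₗ i = b₁ from LinearMap.coprod_inl _ _,
        show c ∘ₗ i' = b₂ from LinearMap.coprod_inr _ _, Lin.post_app, hb₁, hb₂]
  · obtain ⟨s, y, hs⟩ := sigma_span D (Sy A Q) (ξ.app (Sy A Q) (ιS A Q))
    obtain ⟨Q', hQ', T, b', hb', hT⟩ := exists_rel_finset D hD B s Q ‹_› ξ b hb
    refine ⟨Q', hQ', T, b', hb', Lin.ext (funext fun C => funext fun g => ?_)⟩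
    rw [Lin.zero_app]
    refine sigma_joint_injective D C _ fun j => ?_
    by_cases hj : j ∈ s
    · exact congrArg (fun w => w.app C g) (hT j hj)
    · rw [Lin.push_app, ξ.app_eq, hs, map_sum, map_sum]
      refine Finset.sum_eq_zero fun i hi => ?_
      rw [nat_ap, sproj_ι, if_neg (fun h : i = j => hj (h ▸ hi)), map_zero]
  · refine (injective_iff_map_eq_zero _).2 fun x hx => Finsupp.ext fun k => ?_
    refine sigma_joint_injective D C _ fun j => ?_
    have h1 : Finsupp.mapRange (ap (sproj D j) C) (map_zero _) x = 0 := ((hD j).poly C).1 (by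
      rw [← psum_nat, hx, map_zero, map_zero])
    exact congrArg (fun w => w k) h1
  · obtain ⟨s, y, rfl⟩ := sigma_span D (Po C) z
    have h : ∀ j, ∃ x, psum (∐ D) C x = ap (Sigma.ι D j) (Po C) (y j) := fun j => by
      obtain ⟨x, hx⟩ := ((hD j).poly C).2 (y j)
      exact ⟨_, by rw [← psum_nat, hx]⟩
    choose x hx using h
    exact ⟨∑ j ∈ s, x j, by rw [map_sum]; exact Finset.sum_congr rfl fun j _ => hx j⟩

end Colim

/-- A colimit of adequate functors is adequate. -/
theorem good_colimit {J : Type (u + 1)} [SmallCategory J] (D : J ⥤ Adeq.MVF A) (hD : ∀ j, Good (D.obj j)) :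
    Good (colimit D) := by
  classical
  let R : Type (u + 1) := Σ a : J, Σ b : J, a ⟶ b
  let s : (∐ fun r : R => D.obj r.1) ⟶ ∐ fun j => D.obj j := Sigma.desc fun r => Sigma.ι (fun j => D.obj j) r.1
  let t : (∐ fun r : R => D.obj r.1) ⟶ ∐ fun j => D.obj j :=
    Sigma.desc fun r => D.map r.2.2 ≫ Sigma.ι (fun j => D.obj j) r.2.1
  have hgood := good_cokernel (good_sigma _ fun r : R => hD r.1) (good_sigma _ hD) (s - t)
  have hw : ∀ {a b : J} (f : a ⟶ b), D.map f ≫ Sigma.ι (fun j => D.obj j) b ≫ cokernel.π (s - t) =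
      Sigma.ι (fun j => D.obj j) a ≫ cokernel.π (s - t) := by
    intro a b f
    have h := congrArg (fun w => Sigma.ι (fun r : R => D.obj r.1) ⟨a, b, f⟩ ≫ w) (cokernel.condition (s - t))
    simp only [comp_zero, Preadditive.sub_comp, Preadditive.comp_sub, s, t, colimit.ι_desc_assoc, Cofan.mk_ι_app,
      Category.assoc, sub_eq_zero] at h
    exact h.symm
  let c : Cocone D :=
    { pt := cokernel (s - t)
      ι := { app := fun j => Sigma.ι (fun j => D.obj j) j ≫ cokernel.π (s - t)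
             naturality := fun a b f => (hw f).trans (Category.comp_id _).symm } }
  have hc : IsColimit c :=
    { desc := fun e => cokernel.desc _ (Sigma.desc fun j => e.ι.app j) (by
        refine Sigma.hom_ext _ _ fun r => ?_
        simp only [Preadditive.sub_comp, Preadditive.comp_sub, comp_zero, s, t, colimit.ι_desc_assoc,
          Cofan.mk_ι_app, Category.assoc, colimit.ι_desc, e.w, sub_self])
      fac := fun e j => by simp [c]
      uniq := fun e m hm => by
        refine coequalizer.hom_ext (Sigma.hom_ext _ _ fun j => ?_)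
        simpa [c] using hm j }
  have e := (colimit.isColimit D).coconePointUniqueUpToIso hc
  exact good_iff.2 ((Adeq.adequate A).prop_of_iso e.symm (good_iff.1 hgood))

end Groth.Agent.AdeqFound
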