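import Groth.Agent.AdeqFound.Closure
import Mathlib.Algebra.Category.Ring.FilteredColimits
import Mathlib.Algebra.Category.Ring.Colimits
import Mathlib.CategoryTheory.Limits.Constructions.Over.Connected
import Mathlib.Algebra.Category.CommAlgCat.Basic
import Mathlib.CategoryTheory.Limits.Types.Filtered

/-!
# Good functors commute with filtered colimits
-/

set_option autoImplicit false

universe u

open CategoryTheory Limits TensorProduct Opposite

namespace Groth.Agent.AdeqFound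

variable {A : Type u} [CommRing A] {J : Type u} [SmallCategory J] [IsFiltered J] {D : J ⥤ Adeq.Alg A} {c : Cocone D}

theorem alg_colimit (hc : IsColimit c) : (∀ x : (c.pt : Type u), ∃ j, ∃ y : (D.obj j : Type u), (c.ι.app j).hom y = x) ∧
    ∀ (j : J) (x y : (D.obj j : Type u)), (c.ι.app j).hom x = (c.ι.app j).hom y →
      ∃ (k : J) (f : j ⟶ k), (D.map f).hom x = (D.map f).hom y := by
  haveI : IsConnected J := IsFiltered.isConnected J
  let E := (commAlgCatEquivUnder (CommRingCat.of A)).functor ⋙ Under.forget _ ⋙ forget CommRingCat.{u}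
  have h : IsColimit (E.mapCocone c) := isColimitOfPreserves E hc
  refine ⟨fun x => ?_, fun j x y e => ?_⟩
  · obtain ⟨j, y, hy⟩ := Types.jointly_surjective _ h x
    exact ⟨j, y, hy⟩
  · obtain ⟨k, f, hf⟩ := (Types.FilteredColimit.isColimit_eq_iff' h (i := j) x y).1 e
    exact ⟨k, f, hf⟩

theorem exists_factor (hc : IsColimit c) (Q : ModuleCat.{u} A) [Module.FinitePresentation A Q]
    (b : Q →ₗ[A] (c.pt : Type u)) :
    ∃ (k : J) (b' : Q →ₗ[A] (D.obj k : Type u)), (c.ι.app k).hom.toLinearMap ∘ₗ b' = b := by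
  classical
  obtain ⟨hs, he⟩ := alg_colimit hc
  obtain ⟨n, q, hq⟩ := Module.Finite.exists_fin' A Q
  choose j y hy using fun i : Fin n => hs (b (q (Pi.single i 1)))
  obtain ⟨k, hk⟩ := IsFiltered.sup_objs_exists (Finset.univ.image j)
  let g : ∀ i : Fin n, j i ⟶ k := fun i => (hk (Finset.mem_image_of_mem j (Finset.mem_univ i))).some
  let z : (Fin n → A) →ₗ[A] (D.obj k : Type u) := Fintype.linearCombination A fun i => (D.map (g i)).hom (y i)
  have hz : (c.ι.app k).hom.toLinearMap ∘ₗ z = b ∘ₗ q := (Pi.basisFun A (Fin n)).ext fun i => by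
    have h1 : z (Pi.single i 1) = (D.map (g i)).hom (y i) := by simp [z, Fintype.linearCombination_apply, Pi.single_apply]
    rw [Pi.basisFun_apply, LinearMap.comp_apply, LinearMap.comp_apply, h1, ← hy i, ← c.w (g i)]
    rfl
  obtain ⟨s, hs⟩ := Module.FinitePresentation.fg_ker q hq
  have : ∀ t : Finset (Fin n → A), (∀ v ∈ t, q v = 0) →
      ∃ (l : J) (f : k ⟶ l), ∀ v ∈ t, (D.map f).hom (z v) = 0 := by
    intro t
    induction t using Finset.induction with
    | empty => exact fun _ => ⟨k, 𝟙 k, by simp⟩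
    | insert v t hv ih =>
      intro ht
      obtain ⟨l, f, hf⟩ := ih fun w hw => ht w (Finset.mem_insert_of_mem hw)
      have h0 : (c.ι.app l).hom ((D.map f).hom (z v)) = (c.ι.app l).hom 0 := by
        rw [map_zero, show (c.ι.app l).hom ((D.map f).hom (z v)) = (D.map f ≫ c.ι.app l).hom (z v) from rfl, c.w f]
        exact (LinearMap.congr_fun hz v).trans (by rw [LinearMap.comp_apply, ht v (Finset.mem_insert_self _ _), map_zero])
      obtain ⟨m, g', hg'⟩ := he l _ _ h0
      refine ⟨m, f ≫ g', fun w hw => ?_⟩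
      rw [D.map_comp]
      show (D.map g').hom ((D.map f).hom (z w)) = 0
      rcases Finset.mem_insert.1 hw with rfl | hw
      · rw [hg', map_zero]
      · rw [hf w hw, map_zero]
  obtain ⟨l, f, hf⟩ := this s fun v hv => LinearMap.mem_ker.1 (hs ▸ Submodule.subset_span hv)
  have hker : LinearMap.ker q ≤ LinearMap.ker ((D.map f).hom.toLinearMap ∘ₗ z) := by
    rw [← hs, Submodule.span_le]
    exact fun v hv => hf v hv
  refine ⟨l, (LinearMap.ker q).liftQ _ hker ∘ₗ (q.quotKerEquivOfSurjective hq).symm.toLinearMap,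
    LinearMap.ext fun x => ?_⟩
  obtain ⟨v, rfl⟩ := hq x
  have hsymm : (q.quotKerEquivOfSurjective hq).symm (q v) = Submodule.Quotient.mk v := by
    rw [LinearEquiv.symm_apply_eq]; rfl
  simp only [LinearMap.comp_apply, LinearEquiv.coe_coe, hsymm, Submodule.liftQ_apply]
  show (D.map f ≫ c.ι.app l).hom (z v) = _
  rw [c.w f]
  exact LinearMap.congr_fun hz v

variable {F : Adeq.MVF A}

theorem joint_surjective (hF : Good F) (hc : IsColimit c) (x : F.obj (Adeq.pt c.pt)) :
    ∃ (j : J) (y : F.obj (Adeq.pt (D.obj j))), mp F (c.ι.app j) y = x := by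
  obtain ⟨Q, hQ, ξ, b, rfl⟩ := hF.gen c.pt x
  haveI := hQ
  obtain ⟨k, b', rfl⟩ := exists_factor hc Q b
  exact ⟨k, ξ.app _ b', ξ.nat _ _⟩

theorem eq_zero_at_stage (hF : Good F) (hc : IsColimit c) (j : J) (y : F.obj (Adeq.pt (D.obj j)))
    (hy : mp F (c.ι.app j) y = 0) : ∃ (k : J) (f : j ⟶ k), mp F (D.map f) y = 0 := by
  classical
  obtain ⟨Q, hQ, ξ, b, rfl⟩ := hF.gen (D.obj j) y
  haveI := hQ
  rw [ξ.nat] at hy
  obtain ⟨Q', hQ', T, b', hT, hT0⟩ := hF.rel Q ξ c.pt _ hy
  haveI := hQ'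
  obtain ⟨k, b₁, hb₁⟩ := exists_factor hc Q' b'
  obtain ⟨m, f, g, -⟩ := IsFilteredOrEmpty.cocone_objs j k
  obtain ⟨n, q, hq⟩ := Module.Finite.exists_fin' A Q
  let u₁ : Q →ₗ[A] (D.obj m : Type u) := (D.map f).hom.toLinearMap ∘ₗ b
  let u₂ : Q →ₗ[A] (D.obj m : Type u) := (D.map g).hom.toLinearMap ∘ₗ b₁ ∘ₗ T
  have hu : ∀ x, (c.ι.app m).hom (u₁ x) = (c.ι.app m).hom (u₂ x) := fun x => by
    show (D.map f ≫ c.ι.app m).hom (b x) = (D.map g ≫ c.ι.app m).hom (b₁ (T x))
    rw [c.w f, c.w g]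
    exact ((LinearMap.congr_fun hT x).symm.trans (LinearMap.congr_fun hb₁ (T x)).symm)
  have : ∀ t : Finset (Fin n), ∃ (l : J) (h : m ⟶ l), ∀ i ∈ t,
      (D.map h).hom (u₁ (q (Pi.single i 1))) = (D.map h).hom (u₂ (q (Pi.single i 1))) := by
    intro t
    induction t using Finset.induction with
    | empty => exact ⟨m, 𝟙 m, by simp⟩
    | insert i t hi ih =>
      obtain ⟨l, h, hl⟩ := ih
      obtain ⟨l', h', hl'⟩ := (alg_colimit hc).2 l ((D.map h).hom (u₁ (q (Pi.single i 1))))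
        ((D.map h).hom (u₂ (q (Pi.single i 1)))) (by
          show (D.map h ≫ c.ι.app l).hom _ = (D.map h ≫ c.ι.app l).hom _
          rw [c.w h]; exact hu _)
      refine ⟨l', h ≫ h', fun i' hi' => ?_⟩
      rw [D.map_comp]
      show (D.map h').hom ((D.map h).hom _) = (D.map h').hom ((D.map h).hom _)
      rcases Finset.mem_insert.1 hi' with rfl | hi'
      · exact hl'
      · rw [hl i' hi']
  obtain ⟨l, h, hl⟩ := this Finset.univ
  refine ⟨l, f ≫ h, ?_⟩
  have he : (D.map (f ≫ h)).hom.toLinearMap ∘ₗ b =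
      ((D.map h).hom.toLinearMap ∘ₗ (D.map g).hom.toLinearMap ∘ₗ b₁) ∘ₗ T := by
    refine LinearMap.ext fun x => ?_
    obtain ⟨v, rfl⟩ := hq x
    have hv := pi_eq_sum_univ' v
    rw [D.map_comp]
    show ((D.map h).hom.toLinearMap ∘ₗ u₁ ∘ₗ q) v = ((D.map h).hom.toLinearMap ∘ₗ u₂ ∘ₗ q) v
    rw [hv, map_sum, map_sum]
    exact Finset.sum_congr rfl fun i _ => by
      rw [map_smul, map_smul]; exact congrArg (v i • ·) (hl i (Finset.mem_univ i))
  rw [ξ.nat, he, ← Lin.push_app, hT0, Lin.zero_app]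

/-- Good functors commute with filtered colimits. -/
theorem isColimit_toAb (hF : Good F) (hc : IsColimit c) : Nonempty (IsColimit (F.toAb.mapCocone c)) := by
  choose j y hy using joint_surjective hF hc
  have key : ∀ (s : Cocone (D ⋙ F.toAb)) (i k : J) (a : F.obj (Adeq.pt (D.obj i))) (b : F.obj (Adeq.pt (D.obj k))),
      mp F (c.ι.app i) a = mp F (c.ι.app k) b → (s.ι.app i).hom a = (s.ι.app k).hom b := by
    intro s i k a b e
    obtain ⟨m, f, g, -⟩ := IsFilteredOrEmpty.cocone_objs i k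
    have h0 : mp F (c.ι.app m) (mp F (D.map f) a - mp F (D.map g) b) = 0 := by
      rw [map_sub, mp_comp, mp_comp, c.w, c.w, e, sub_self]
    obtain ⟨l, h, hl⟩ := eq_zero_at_stage hF hc m _ h0
    rw [map_sub, sub_eq_zero, mp_comp, mp_comp, ← D.map_comp, ← D.map_comp] at hl
    rw [← s.w (f ≫ h), ← s.w (g ≫ h)]
    exact congrArg (s.ι.app l).hom hl
  refine ⟨{ desc := fun s => AddCommGrpCat.ofHom (AddMonoidHom.mk' (fun x => (s.ι.app (j x)).hom (y x)) fun a b => ?_),
            fac := fun s i => ?_, uniq := fun s m hm => ?_ }⟩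
  · obtain ⟨m, f, g, -⟩ := IsFilteredOrEmpty.cocone_objs (j a) (j b)
    have h := key s (j (a + b)) m (y (a + b)) (mp F (D.map f) (y a) + mp F (D.map g) (y b)) (by
      rw [map_add, mp_comp, mp_comp, c.w, c.w, hy, hy, hy])
    refine h.trans ?_
    rw [← s.w f, ← s.w g]
    exact map_add (s.ι.app m).hom _ _
  · ext a
    exact key s _ i _ a (hy _)
  · ext x
    show m.hom x = (s.ι.app (j x)).hom (y x)
    rw [← hm (j x)]
    exact congrArg m.hom (hy x).symm

end Groth.Agent.AdeqFound
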