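import Groth.Agent.AdeqFound.Good
import Mathlib.Algebra.Module.CharacterModule

/-!
# Embedding good functors into functors of modules
-/

set_option autoImplicit false

universe u

open CategoryTheory Limits TensorProduct Opposite

namespace Groth.Agent.AdeqFound

variable {A : Type u} [CommRing A]

theorem ofTensor_injective {Q : Type u} [AddCommGroup Q] [Module A Q] {M : ModuleCat.{u + 1} A} :
    Function.Injective (ofTensor (Q := Q) (M := M)) := by
  intro z w e
  have h : (p₁ A Q).rTensor M (ev _ ((ofTensor z).app (Sy A Q) (ιS A Q))) =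
      (p₁ A Q).rTensor M (ev _ ((ofTensor w).app (Sy A Q) (ιS A Q))) := by rw [e]
  rw [ev_ofTensor, ev_ofTensor, ← LinearMap.rTensor_comp_apply, ← LinearMap.rTensor_comp_apply] at h
  rw [show p₁ A Q ∘ₗ ιS A Q = LinearMap.id from LinearMap.ext (p₁_ι A Q)] at h
  simpa using h

theorem exists_map_eq {M N : ModuleCat.{u + 1} A} (f : U M ⟶ U N) :
    ∃ g : M ⟶ N, (Adeq.underline A).map g = f := by
  obtain ⟨g, hg⟩ : ∃ g : M →ₗ[A] N, ∀ (m : M) (B : Adeq.Alg A),
      ev B (ap f B ((ev B).symm ((1 : (B : Type u)) ⊗ₜ m))) = (1 : (B : Type u)) ⊗ₜ g m := by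
    let B₀ : Adeq.Alg A := Adeq.algOf A A
    let g : M →ₗ[A] N :=
      { toFun := fun m => TensorProduct.lid A N (ev B₀ (ap f B₀ ((ev B₀).symm ((1 : (B₀ : Type u)) ⊗ₜ m))))
        map_add' := fun m m' => by rw [TensorProduct.tmul_add, map_add, map_add, map_add, map_add]
        map_smul' := fun a m => by
          have h1 : (ev B₀).symm ((1 : (B₀ : Type u)) ⊗ₜ (a • m)) = (a : (B₀ : Type u)) • (ev B₀).symm ((1 : (B₀ : Type u)) ⊗ₜ m) :=
            (ev B₀).injective (by
              rw [ev_smul, AddEquiv.apply_symm_apply, AddEquiv.apply_symm_apply, LinearMap.rTensor_tmul,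
                LinearMap.mulLeft_apply, TensorProduct.tmul_smul, TensorProduct.smul_tmul']
              first | rfl | skip)
          rw [h1, map_smul, ev_smul, RingHom.id_apply, ← map_smul]
          congr 1 }
    refine ⟨g, fun m B => ?_⟩
    let j : B₀ ⟶ B := CommAlgCat.ofHom (Algebra.ofId A (B : Type u))
    have h1 : (ev B).symm ((1 : (B : Type u)) ⊗ₜ m) = mp (U M) j ((ev B₀).symm ((1 : (B₀ : Type u)) ⊗ₜ m)) :=
      (ev B).injective (by
        rw [ev_mp, AddEquiv.apply_symm_apply, AddEquiv.apply_symm_apply, LinearMap.rTensor_tmul]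
        exact congrArg (· ⊗ₜ m) (map_one (algebraMap A (B : Type u))).symm)
    rw [h1, nat_ap, ev_mp]
    obtain ⟨w, hw⟩ := (TensorProduct.lid A N).symm.surjective (ev B₀ (ap f B₀ ((ev B₀).symm ((1 : (B₀ : Type u)) ⊗ₜ m))))
    have hgm : g m = w := by
      show TensorProduct.lid A N _ = w
      exact (congrArg (TensorProduct.lid A N) hw.symm).trans ((TensorProduct.lid A N).apply_symm_apply w)
    rw [← hw, hgm]
    show (Algebra.ofId A (B : Type u)).toLinearMap.rTensor N ((1 : A) ⊗ₜ[A] w) = _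
    rw [LinearMap.rTensor_tmul]
    exact congrArg (· ⊗ₜ w) (map_one (algebraMap A (B : Type u)))
  refine ⟨ModuleCat.ofHom g, hom_ext fun B x => (ev B).injective ?_⟩
  obtain ⟨x, rfl⟩ := (ev B).symm.surjective x
  rw [ev_ap, AddEquiv.apply_symm_apply]
  induction x using TensorProduct.induction_on with
  | zero => simp
  | add x y hx hy => rw [map_add, hx, hy, map_add, map_add, map_add]
  | tmul b m =>
    have h1 : (ev B).symm (b ⊗ₜ m) = b • (ev B).symm ((1 : (B : Type u)) ⊗ₜ m) := (ev B).injective (by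
      rw [ev_smul, AddEquiv.apply_symm_apply, AddEquiv.apply_symm_apply, LinearMap.rTensor_tmul,
        LinearMap.mulLeft_apply, mul_one])
    rw [h1, map_smul, ev_smul, hg, LinearMap.rTensor_tmul, LinearMap.lTensor_tmul, LinearMap.mulLeft_apply, mul_one]
    rfl

section Pairing

/-- The target of characters. -/
abbrev RZ : Type := AddCircle (1 : ℚ)

variable {I : Type (u + 1)} (P : I → ModuleCat.{u} A) {Q : Type u} [AddCommGroup Q] [Module A Q]

/-- The product of the character modules. -/
noncomputable abbrev DM : ModuleCat.{u + 1} A := ModuleCat.of A (∀ i, CharacterModule (P i : Type u))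

/-- The pairing with a linear map. -/
noncomputable def pair (i : I) (h : Q →ₗ[A] (P i : Type u)) : Q ⊗[A] (DM P) →+ RZ :=
  TensorProduct.liftAddHom
    (AddMonoidHom.mk' (fun q => AddMonoidHom.mk' (fun g : (DM P : Type (u + 1)) => (g i) (h q))
        (fun g g' => rfl))
      (fun q q' => AddMonoidHom.ext fun g => by
        show g i (h (q + q')) = g i (h q) + g i (h q')
        rw [map_add, map_add]))
    (fun a q g => by
      show g i (h (a • q)) = (a • g) i (h q)
      rw [map_smul]; rfl)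

@[simp] theorem pair_tmul (i : I) (h : Q →ₗ[A] (P i : Type u)) (q : Q) (g : DM P) :
    pair P i h (q ⊗ₜ g) = g i (h q) := rfl

theorem pair_comp {Q' : Type u} [AddCommGroup Q'] [Module A Q'] (i : I) (T : Q →ₗ[A] Q') (h : Q' →ₗ[A] (P i : Type u))
    (z : Q ⊗[A] (DM P)) : pair P i h (T.rTensor _ z) = pair P i (h ∘ₗ T) z := by
  induction z using TensorProduct.induction_on with
  | zero => simp
  | tmul q g => rfl
  | add x y hx hy => rw [map_add, map_add, map_add, hx, hy]

theorem exists_extend {U V : Type u} [AddCommGroup U] [AddCommGroup V] (f : U →+ V) (hf : Function.Injective f)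
    (χ : U →+ RZ) : ∃ Y : V →+ RZ, ∀ x, Y (f x) = χ x := by
  obtain ⟨Y, hY⟩ := CharacterModule.dual_surjective_of_injective (R := ℤ) f.toIntLinearMap hf χ
  exact ⟨Y, fun x => DFunLike.congr_fun hY x⟩

theorem sum_tmul_basis {n : ℕ} {N : Type (u + 1)} [AddCommGroup N] [Module A N] (z : (Fin n → A) ⊗[A] N) :
    ∃ m : Fin n → N, z = ∑ j, Pi.single j (1 : A) ⊗ₜ m j := by
  induction z using TensorProduct.induction_on with
  | zero => exact ⟨0, by simp⟩
  | tmul v x =>
    refine ⟨fun j => v j • x, ?_⟩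
    conv_lhs => rw [pi_eq_sum_univ' v, TensorProduct.sum_tmul]
    exact Finset.sum_congr rfl fun j _ => by rw [TensorProduct.smul_tmul]
  | add a b ha hb =>
    obtain ⟨m, rfl⟩ := ha; obtain ⟨m', rfl⟩ := hb
    exact ⟨m + m', by simp [TensorProduct.tmul_add, Finset.sum_add_distrib]⟩

theorem existsUnique_pair [Module.FinitePresentation A Q] (χ : ∀ i, (Q →ₗ[A] (P i : Type u)) →+ RZ) :
    ∃! z : Q ⊗[A] (DM P), ∀ i h, pair P i h z = χ i h := by
  classical
  obtain ⟨n, q, hq⟩ := Module.Finite.exists_fin' A Q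
  let e : Fin n → Q := fun j => q (Pi.single j 1)
  have hspan : ∀ x, ∃ v : Fin n → A, x = ∑ j, v j • e j := fun x => by
    obtain ⟨v, rfl⟩ := hq x
    exact ⟨v, by conv_lhs => rw [pi_eq_sum_univ' v]; simp [e]⟩
  refine existsUnique_of_exists_of_unique ?_ ?_
  · have hY : ∀ i, ∃ Y : (Fin n → (P i : Type u)) →+ RZ, ∀ h : Q →ₗ[A] (P i : Type u), Y (fun j => h (e j)) = χ i h := by
      intro i
      refine exists_extend (AddMonoidHom.mk' (fun (h : Q →ₗ[A] (P i : Type u)) j => h (e j)) (fun h h' => rfl))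
        (fun h h' hh => LinearMap.ext fun x => ?_) (χ i)
      obtain ⟨v, rfl⟩ := hspan x
      simp only [map_sum, map_smul]
      exact Finset.sum_congr rfl fun j _ => congrArg (v j • ·) (congrFun hh j)
    choose Y hY using hY
    refine ⟨∑ j, e j ⊗ₜ (fun i => ((Y i).comp (AddMonoidHom.single (fun _ => (P i : Type u)) j) : CharacterModule (P i : Type u))), fun i h => ?_⟩
    rw [map_sum, ← hY i h]
    simp only [pair_tmul]
    conv_rhs => rw [← Finset.univ_sum_single (fun j => h (e j)), map_sum]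
    rfl
  · intro z z' hz hz'
    suffices H : ∀ w : Q ⊗[A] (DM P), (∀ i h, pair P i h w = 0) → w = 0 from
      sub_eq_zero.1 (H _ fun i h => by rw [map_sub, hz, hz', sub_self])
    intro w hw
    obtain ⟨w₀, rfl⟩ := LinearMap.rTensor_surjective (DM P) hq w
    obtain ⟨m, rfl⟩ := sum_tmul_basis w₀
    obtain ⟨r, K, hK⟩ : ∃ (r : ℕ) (K : (Fin r → A) →ₗ[A] (Fin n → A)), LinearMap.range K = LinearMap.ker q := by
      haveI : Module.Finite A (LinearMap.ker q) := Module.Finite.iff_fg.2 (Module.FinitePresentation.fg_ker q hq)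
      obtain ⟨r, K, hK⟩ := Module.Finite.exists_fin' A (LinearMap.ker q)
      exact ⟨r, (LinearMap.ker q).subtype ∘ₗ K, by
        rw [LinearMap.range_comp, LinearMap.range_eq_top.2 hK, Submodule.map_top, Submodule.range_subtype]⟩
    let c : Fin r → Fin n → A := fun l => K (Pi.single l 1)
    have hY : ∀ i, ∃ Y : (Fin r → (P i : Type u)) →+ RZ, ∀ p : Fin n → (P i : Type u),
        Y (fun l => ∑ j, c l j • p j) = ∑ j, m j i (p j) := by
      intro i
      let R : (Fin n → (P i : Type u)) →+ (Fin r → (P i : Type u)) :=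
        AddMonoidHom.mk' (fun p l => ∑ j, c l j • p j) (fun p p' => funext fun l => by
          simp [smul_add, Finset.sum_add_distrib])
      let G : (Fin n → (P i : Type u)) →+ RZ :=
        AddMonoidHom.mk' (fun p => ∑ j, m j i (p j)) (fun p p' => by
          simp only [Pi.add_apply, map_add, Finset.sum_add_distrib])
      have hG : R.ker ≤ G.ker := by
        intro p hp
        let h₀ : (Fin n → A) →ₗ[A] (P i : Type u) := Fintype.linearCombination A p
        have hle : LinearMap.ker q ≤ LinearMap.ker h₀ := by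
          rw [← hK]
          rintro _ ⟨x, rfl⟩
          show h₀ (K x) = 0
          rw [pi_eq_sum_univ' x]
          simp only [map_sum, map_smul]
          refine Finset.sum_eq_zero fun l _ => ?_
          have hl : h₀ (c l) = 0 := (Fintype.linearCombination_apply A p (c l)).trans (congrFun hp l)
          rw [show K (Pi.single l 1) = c l from rfl, hl, smul_zero]
        let h : Q →ₗ[A] (P i : Type u) := (LinearMap.ker q).liftQ h₀ hle ∘ₗ (q.quotKerEquivOfSurjective hq).symm.toLinearMap
        have hh : ∀ j, h (q (Pi.single j 1)) = p j := fun j => by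
          have hsymm : (q.quotKerEquivOfSurjective hq).symm (q (Pi.single j 1)) = Submodule.Quotient.mk (Pi.single j 1) := by
            rw [LinearEquiv.symm_apply_eq]; rfl
          simp only [h, LinearMap.comp_apply, LinearEquiv.coe_coe, hsymm, Submodule.liftQ_apply]
          simp [h₀, Fintype.linearCombination_apply, Pi.single_apply]
        have h0 := hw i h
        simp only [map_sum, LinearMap.rTensor_tmul] at h0
        refine Eq.trans ?_ h0
        show ∑ j, m j i (p j) = ∑ j, m j i (h (q (Pi.single j 1)))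
        exact Finset.sum_congr rfl fun j _ => (congrArg (m j i) (hh j)).symm
      obtain ⟨Y, hY⟩ := exists_extend (QuotientAddGroup.kerLift R) (QuotientAddGroup.kerLift_injective R)
        (QuotientAddGroup.lift R.ker G hG)
      exact ⟨Y, fun p => hY (QuotientAddGroup.mk p)⟩
    choose Y hY using hY
    let y : Fin r → (DM P : Type (u + 1)) := fun l i => (Y i).comp (AddMonoidHom.single (fun _ => (P i : Type u)) l)
    have hm : ∀ j, m j = ∑ l, c l j • y l := fun j => funext fun i => AddMonoidHom.ext fun x => by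
      have h1 := hY i (Pi.single j x)
      rw [Finset.sum_eq_single j (fun j' _ hj => by rw [Pi.single_eq_of_ne hj, map_zero])
        (fun hj => absurd (Finset.mem_univ _) hj), Pi.single_eq_same] at h1
      refine h1.symm.trans ?_
      erw [Finset.sum_apply, AddMonoidHom.finset_sum_apply]
      show Y i (fun l => ∑ j', c l j' • (Pi.single j x : Fin n → (P i : Type u)) j') = ∑ l, Y i (Pi.single l (c l j • x))
      rw [← map_sum]
      refine congrArg (Y i) (funext fun l => ?_)
      rw [Finset.univ_sum_single, Finset.sum_eq_single j (fun j' _ hj => by rw [Pi.single_eq_of_ne hj, smul_zero])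
        (fun hj => absurd (Finset.mem_univ _) hj), Pi.single_eq_same]
    simp only [map_sum, LinearMap.rTensor_tmul, hm, TensorProduct.tmul_sum]
    rw [Finset.sum_comm]
    refine Finset.sum_eq_zero fun l _ => ?_
    simp only [TensorProduct.tmul_smul, TensorProduct.smul_tmul', ← map_smul, ← TensorProduct.sum_tmul, ← map_sum]
    rw [← pi_eq_sum_univ' (c l), LinearMap.mem_ker.1 (hK ▸ LinearMap.mem_range_self K _), TensorProduct.zero_tmul]

end Pairing

variable {F G : Adeq.MVF A}

/-- Morphisms to the functor of a module from compatible tensors. -/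
theorem exists_hom (hgen : ∀ (B : Adeq.Alg A) (x : F.obj (Adeq.pt B)), ∃ (Q : ModuleCat.{u} A)
      (_ : Module.FinitePresentation A Q) (ξ : Lin Q F) (b : Q →ₗ[A] (B : Type u)), ξ.app B b = x)
    (hrel : ∀ (Q : ModuleCat.{u} A) [Module.FinitePresentation A Q] (ξ : Lin Q F) (B : Adeq.Alg A)
      (b : Q →ₗ[A] (B : Type u)), ξ.app B b = 0 → ∃ (Q' : ModuleCat.{u} A) (_ : Module.FinitePresentation A Q')
        (T : Q →ₗ[A] Q') (b' : Q' →ₗ[A] (B : Type u)), b' ∘ₗ T = b ∧ Lin.push T ξ = 0)
    {M : ModuleCat.{u + 1} A}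
    (Φ : ∀ (Q : ModuleCat.{u} A) [Module.FinitePresentation A Q], Lin Q F →+ (Q : Type u) ⊗[A] M)
    (hΦ : ∀ (Q Q' : ModuleCat.{u} A) [Module.FinitePresentation A Q] [Module.FinitePresentation A Q']
      (T : Q →ₗ[A] Q') (ξ : Lin Q F), Φ Q' (Lin.push T ξ) = T.rTensor M (Φ Q ξ)) :
    ∃ f : F ⟶ U M, ∀ (Q : ModuleCat.{u} A) [Module.FinitePresentation A Q] (ξ : Lin Q F) (B : Adeq.Alg A)
      (b : Q →ₗ[A] (B : Type u)), ev B (ap f B (ξ.app B b)) = b.rTensor M (Φ Q ξ) := by
  have hwd : ∀ (Q : ModuleCat.{u} A) [Module.FinitePresentation A Q] (ξ : Lin Q F) (Q' : ModuleCat.{u} A)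
      [Module.FinitePresentation A Q'] (ξ' : Lin Q' F) (B : Adeq.Alg A) (b : Q →ₗ[A] (B : Type u))
      (b' : Q' →ₗ[A] (B : Type u)), ξ.app B b = ξ'.app B b' → b.rTensor M (Φ Q ξ) = b'.rTensor M (Φ Q' ξ') := by
    intro Q _ ξ Q' _ ξ' B b b' h
    let P : ModuleCat.{u} A := ModuleCat.of A (Prod (Q : Type u) (Q' : Type u))
    haveI : Module.FinitePresentation A P := inferInstanceAs (Module.FinitePresentation A (Prod (Q : Type u) (Q' : Type u)))
    let i : Q →ₗ[A] P := LinearMap.inl A Q Q'
    let i' : Q' →ₗ[A] P := LinearMap.inr A Q Q'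
    let c : P →ₗ[A] (B : Type u) := b.coprod b'
    have hci : c ∘ₗ i = b := LinearMap.coprod_inl b b'
    have hci' : c ∘ₗ i' = b' := LinearMap.coprod_inr b b'
    have h0 : (Lin.push i ξ + -Lin.push i' ξ').app B c = 0 := by
      rw [Lin.add_app, Lin.neg_app, Lin.push_app, Lin.push_app, hci, hci', h, add_neg_cancel]
    obtain ⟨R, hR, T, c', hc', hT⟩ := hrel P _ B c h0
    haveI := hR
    have h1 := congrArg (Φ R) hT
    rw [map_zero, map_add, map_neg, map_add, map_neg, Lin.push_push, Lin.push_push, hΦ, hΦ, ← sub_eq_add_neg,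
      sub_eq_zero] at h1
    have h2 := congrArg (c'.rTensor M) h1
    rwa [← LinearMap.rTensor_comp_apply, ← LinearMap.rTensor_comp_apply, ← LinearMap.comp_assoc, ← LinearMap.comp_assoc,
      hc', hci, hci'] at h2
  choose Qx hQx ξx bx hx using hgen
  let app₀ : ∀ B : Adeq.Alg A, F.obj (Adeq.pt B) → (U M).obj (Adeq.pt B) := fun B x =>
    (ev B).symm (haveI := hQx B x; (bx B x).rTensor M (Φ (Qx B x) (ξx B x)))
  have happ : ∀ (Q : ModuleCat.{u} A) [Module.FinitePresentation A Q] (ξ : Lin Q F) (B : Adeq.Alg A)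
      (b : Q →ₗ[A] (B : Type u)), ev B (app₀ B (ξ.app B b)) = b.rTensor M (Φ Q ξ) := fun Q _ ξ B b => by
    simp only [app₀, AddEquiv.apply_symm_apply]
    haveI := hQx B (ξ.app B b)
    exact hwd _ _ _ _ B _ _ (hx B _)
  refine ⟨mkHom (fun B => { toFun := app₀ B, map_add' := fun x y => (ev B).injective ?_, map_smul' := fun c x => (ev B).injective ?_ })
    (fun {B C} f x => (ev C).injective ?_), fun Q _ ξ B b => happ Q ξ B b⟩
  · haveI := hQx B x; haveI := hQx B y
    let P : ModuleCat.{u} A := ModuleCat.of A (Prod (Qx B x : Type u) (Qx B y : Type u))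
    haveI : Module.FinitePresentation A P :=
      inferInstanceAs (Module.FinitePresentation A (Prod (Qx B x : Type u) (Qx B y : Type u)))
    let i : Qx B x →ₗ[A] P := LinearMap.inl A _ _
    let i' : Qx B y →ₗ[A] P := LinearMap.inr A _ _
    let c : P →ₗ[A] (B : Type u) := (bx B x).coprod (bx B y)
    have hsum : (Lin.push i (ξx B x) + Lin.push i' (ξx B y)).app B c = x + y := by
      rw [Lin.add_app, Lin.push_app, Lin.push_app, show c ∘ₗ i = bx B x from LinearMap.coprod_inl _ _,
        show c ∘ₗ i' = bx B y from LinearMap.coprod_inr _ _, hx, hx]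
    rw [← hsum, happ, map_add, map_add, hΦ, hΦ, ← LinearMap.rTensor_comp_apply, ← LinearMap.rTensor_comp_apply,
      show c ∘ₗ i = bx B x from LinearMap.coprod_inl _ _, show c ∘ₗ i' = bx B y from LinearMap.coprod_inr _ _]
    simp only [app₀, map_add, AddEquiv.apply_symm_apply]
  · haveI := hQx B x
    have hc : (ξx B x).app B (c • bx B x) = c • x := by rw [Lin.smul, hx]
    rw [← hc, happ]
    refine Eq.trans ?_ (ev_smul c (app₀ B x)).symm
    simp only [app₀, AddEquiv.apply_symm_apply]
    rw [← LinearMap.rTensor_comp_apply]; rfl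
  · haveI := hQx B x
    have hf : (ξx B x).app C (f.hom.toLinearMap ∘ₗ bx B x) = mp F f x := by rw [← Lin.nat, hx]
    show ev C (app₀ C (mp F f x)) = ev C (mp (U M) f (app₀ B x))
    rw [← hf, happ, ev_mp, LinearMap.rTensor_comp_apply]
    simp only [app₀, AddEquiv.apply_symm_apply]

/-- Representatives of finitely presented modules. -/
structure Stage (A : Type u) [CommRing A] : Type u where
  /-- number of generators -/
  n : ℕ
  /-- relations -/
  S : Submodule A (Fin n → A)
  fg : S.FG

/-- The module of a stage. -/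
noncomputable abbrev Stage.mod (s : Stage A) : ModuleCat.{u} A := ModuleCat.of A ((Fin s.n → A) ⧸ s.S)

theorem Stage.finitePresentation (s : Stage A) : Module.FinitePresentation A s.mod :=
  Module.finitePresentation_of_surjective s.S.mkQ s.S.mkQ_surjective (by rw [Submodule.ker_mkQ]; exact s.fg)

theorem Stage.exists_equiv (Q : ModuleCat.{u} A) [Module.FinitePresentation A Q] :
    ∃ (s : Stage A), Nonempty ((Q : Type u) ≃ₗ[A] (s.mod : Type u)) := by
  obtain ⟨n, q, hq⟩ := Module.Finite.exists_fin' A Q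
  exact ⟨⟨n, LinearMap.ker q, Module.FinitePresentation.fg_ker q hq⟩, ⟨(q.quotKerEquivOfSurjective hq).symm⟩⟩

/-- A morphism to a product of character functors with prescribed characters. -/
theorem exists_hom_DM (hF : Good F) {I : Type (u + 1)} (P : I → ModuleCat.{u} A) (χ : ∀ i, Lin (P i) F →+ RZ) :
    ∃ f : F ⟶ U (DM P), ∀ (Q : ModuleCat.{u} A) [Module.FinitePresentation A Q] (ξ : Lin Q F) (B : Adeq.Alg A)
      (b : Q →ₗ[A] (B : Type u)), ∃ z, (∀ i h, pair P i h z = χ i (Lin.push h ξ)) ∧
        ev B (ap f B (ξ.app B b)) = b.rTensor (DM P) z := by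
  have hu : ∀ (Q : ModuleCat.{u} A) [Module.FinitePresentation A Q] (ξ : Lin Q F),
      ∃! z : (Q : Type u) ⊗[A] (DM P), ∀ i h, pair P i h z = χ i (Lin.push h ξ) := fun Q _ ξ =>
    existsUnique_pair P fun i => AddMonoidHom.mk' (fun h => χ i (Lin.push h ξ)) (fun h h' => by
      rw [Lin.push_add, map_add])
  let Φ : ∀ (Q : ModuleCat.{u} A) [Module.FinitePresentation A Q], Lin Q F →+ (Q : Type u) ⊗[A] (DM P) := fun Q _ =>
    AddMonoidHom.mk' (fun ξ => (hu Q ξ).exists.choose) fun ξ ξ' =>
      (hu Q (ξ + ξ')).unique (hu Q (ξ + ξ')).exists.choose_spec fun i h => by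
        rw [map_add, (hu Q ξ).exists.choose_spec, (hu Q ξ').exists.choose_spec, map_add, map_add]
  obtain ⟨f, hf⟩ := exists_hom hF.gen hF.rel Φ fun Q Q' _ _ T ξ =>
    (hu Q' (Lin.push T ξ)).unique (hu Q' (Lin.push T ξ)).exists.choose_spec fun i h => by
      simp only [Φ, AddMonoidHom.mk'_apply]
      rw [pair_comp, (hu Q ξ).exists.choose_spec, Lin.push_push]
  exact ⟨f, fun Q _ ξ B b => ⟨_, (hu Q ξ).exists.choose_spec, hf Q ξ B b⟩⟩

/-- The index of the canonical embedding. -/
abbrev Idx (F : Adeq.MVF A) : Type (u + 1) := Σ s : Stage A, Lin s.mod F →+ RZ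

theorem exists_embedding_DM (hF : Good F) :
    ∃ ι : F ⟶ U (DM fun i : Idx F => i.1.mod), ∀ B, Function.Injective (ap ι B) := by
  obtain ⟨f, hf⟩ := exists_hom_DM hF (fun i : Idx F => i.1.mod) (fun i => i.2)
  refine ⟨f, fun B => (injective_iff_map_eq_zero _).2 fun x hx => ?_⟩
  obtain ⟨Q, hQ, ξ, b, rfl⟩ := hF.gen B x
  haveI := hQ
  obtain ⟨z, hz, hfz⟩ := hf Q ξ B b
  rw [hx, map_zero] at hfz
  obtain ⟨Q', hQ', T, b', hb', hT⟩ := exists_stage A Q b z hfz.symm
  haveI := hQ'
  obtain ⟨s, ⟨e⟩⟩ := Stage.exists_equiv Q'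
  have h0 : Lin.push (e.toLinearMap ∘ₗ T) ξ = 0 := by
    by_contra hne
    obtain ⟨χ, hχ⟩ := CharacterModule.exists_character_apply_ne_zero_of_ne_zero hne
    refine hχ ?_
    have h1 := (pair_comp (fun i : Idx F => i.1.mod) ⟨s, χ⟩ T e.toLinearMap z).trans (hz ⟨s, χ⟩ (e.toLinearMap ∘ₗ T))
    rw [hT, map_zero] at h1
    exact h1.symm
  have := congrArg (fun w => w.app B (b' ∘ₗ e.symm.toLinearMap)) h0
  simp only [Lin.push_app, Lin.zero_app] at this
  rwa [show (b' ∘ₗ e.symm.toLinearMap) ∘ₗ e.toLinearMap ∘ₗ T = b from LinearMap.ext fun q => by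
    simpa using LinearMap.congr_fun hb' q] at this

/-- Good functors embed into functors of modules. -/
theorem exists_embedding (hF : Good F) : ∃ (M : ModuleCat.{u + 1} A) (ι : F ⟶ U M), ∀ B, Function.Injective (ap ι B) :=
  ⟨_, exists_embedding_DM hF⟩

end Groth.Agent.AdeqFound
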