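import Groth.Agent.AdeqFound.Basic

/-!
# Good functors: presentation by linear families
-/

set_option autoImplicit false

universe u w

open CategoryTheory Limits TensorProduct Opposite

namespace Groth.Agent.AdeqFound

variable {A : Type u} [CommRing A]

section Algebra

variable (A) (Q : Type u) [AddCommGroup Q] [Module A Q]

/-- Projection of the symmetric algebra on its degree one part. -/
noncomputable def p₁ : SymmetricAlgebra A Q →ₗ[A] Q :=
  letI : Module Aᵐᵒᵖ Q := Module.compHom Q ((RingHom.id A).fromOpposite mul_comm)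
  haveI : IsCentralScalar A Q := ⟨fun r m => rfl⟩
  (TrivSqZeroExt.sndHom A Q).comp
    (SymmetricAlgebra.lift (R := A) (A := TrivSqZeroExt A Q) (TrivSqZeroExt.inrHom A Q)).toLinearMap

theorem p₁_ι (x : Q) : p₁ A Q (SymmetricAlgebra.ι A Q x) = x := by
  letI : Module Aᵐᵒᵖ Q := Module.compHom Q ((RingHom.id A).fromOpposite mul_comm)
  haveI : IsCentralScalar A Q := ⟨fun r m => rfl⟩
  simp [p₁]

variable {Q}

/-- Coefficients of a polynomial, linearly over `A`. -/
noncomputable def co (C : Type u) [CommRing C] [Algebra A C] (k : ℕ) : Polynomial C →ₗ[A] C :=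
  (Polynomial.lcoeff C k).restrictScalars A

theorem co_apply (C : Type u) [CommRing C] [Algebra A C] (k : ℕ) (f : Polynomial C) : co A C k f = f.coeff k := rfl

/-- `X • h`. -/
noncomputable def tw {C : Type u} [CommRing C] [Algebra A C] (h : Q →ₗ[A] C) : Q →ₗ[A] Polynomial C :=
  (Polynomial.X : Polynomial C) • ((IsScalarTower.toAlgHom A C (Polynomial C)).toLinearMap ∘ₗ h)

theorem tw_apply {C : Type u} [CommRing C] [Algebra A C] (h : Q →ₗ[A] C) (x : Q) :
    tw A h x = Polynomial.X * Polynomial.C (h x) := rfl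

theorem co_one_lift {C : Type u} [CommRing C] [Algebra A C] (h : Q →ₗ[A] C) :
    co A C 1 ∘ₗ (SymmetricAlgebra.lift (tw A h)).toLinearMap = h ∘ₗ p₁ A Q := by
  letI : Module Aᵐᵒᵖ Q := Module.compHom Q ((RingHom.id A).fromOpposite mul_comm)
  haveI : IsCentralScalar A Q := ⟨fun r m => rfl⟩
  refine LinearMap.ext fun x => ?_
  let e := SymmetricAlgebra.lift (R := A) (A := TrivSqZeroExt A Q) (TrivSqZeroExt.inrHom A Q)
  suffices H : (SymmetricAlgebra.lift (tw A h) x).coeff 0 = algebraMap A C (e x).fst ∧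
      (SymmetricAlgebra.lift (tw A h) x).coeff 1 = h (e x).snd from H.2
  induction x using SymmetricAlgebra.induction with
  | algebraMap r => simp [e, TrivSqZeroExt.algebraMap_eq_inl, Polynomial.algebraMap_apply, Polynomial.coeff_C]
  | ι x => simp [e, tw_apply, Polynomial.coeff_X_mul]
  | mul a b ha hb =>
    simp only [map_mul, TrivSqZeroExt.fst_mul, TrivSqZeroExt.snd_mul]
    refine ⟨by rw [Polynomial.mul_coeff_zero, ha.1, hb.1], ?_⟩
    rw [Polynomial.coeff_mul, Finset.Nat.antidiagonal_succ, Finset.sum_cons]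
    simp only [Finset.Nat.antidiagonal_zero, Finset.sum_map, Finset.sum_singleton]
    simp [ha.1, ha.2, hb.1, hb.2, Algebra.smul_def]
    ring
  | add a b ha hb =>
    simp only [map_add, Polynomial.coeff_add, TrivSqZeroExt.fst_add, TrivSqZeroExt.snd_add, ha.1, ha.2, hb.1, hb.2,
      and_self]

theorem exists_fg_range {K : Type u} [AddCommGroup K] [Module A K] {N : Type w} [AddCommGroup N] [Module A N]
    (w₀ : K ⊗[A] N) : ∃ S : Submodule A K, S.FG ∧ w₀ ∈ LinearMap.range (S.subtype.rTensor N) := by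
  induction w₀ using TensorProduct.induction_on with
  | zero => exact ⟨⊥, Submodule.fg_bot, zero_mem _⟩
  | tmul x n => exact ⟨A ∙ x, Submodule.fg_span_singleton x, ⟨⟨x, Submodule.mem_span_singleton_self x⟩ ⊗ₜ n, rfl⟩⟩
  | add a b ha hb =>
    obtain ⟨S, hS, ha⟩ := ha
    obtain ⟨S', hS', hb⟩ := hb
    refine ⟨S ⊔ S', hS.sup hS', add_mem ?_ ?_⟩
    · obtain ⟨v, rfl⟩ := ha
      exact ⟨(Submodule.inclusion le_sup_left).rTensor N v, by
        rw [← LinearMap.comp_apply, ← LinearMap.rTensor_comp, Submodule.subtype_comp_inclusion]⟩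
    · obtain ⟨v, rfl⟩ := hb
      exact ⟨(Submodule.inclusion le_sup_right).rTensor N v, by
        rw [← LinearMap.comp_apply, ← LinearMap.rTensor_comp, Submodule.subtype_comp_inclusion]⟩

theorem exists_fg_of_rTensor_eq_zero {F B : Type u} [AddCommGroup F] [Module A F] [AddCommGroup B] [Module A B]
    {N : Type w} [AddCommGroup N] [Module A N] (π : F →ₗ[A] B) (hπ : Function.Surjective π) (x : F ⊗[A] N)
    (hx : π.rTensor N x = 0) : ∃ S : Submodule A F, S.FG ∧ S ≤ LinearMap.ker π ∧ x ∈ LinearMap.range (S.subtype.rTensor N) := by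
  have h : Function.Exact ((LinearMap.ker π).subtype.rTensor N) (π.rTensor N) :=
    rTensor_exact N (f := (LinearMap.ker π).subtype) (g := π) (LinearMap.exact_subtype_ker_map π) hπ
  obtain ⟨w₀, rfl⟩ := (h x).1 hx
  obtain ⟨S, hS, v, rfl⟩ := exists_fg_range A w₀
  refine ⟨S.map (LinearMap.ker π).subtype, hS.map _, Submodule.map_subtype_le _ _,
    ((LinearMap.ker π).subtype.submoduleMap S).rTensor N v, ?_⟩
  rw [← LinearMap.rTensor_comp_apply, ← LinearMap.rTensor_comp_apply]
  rfl

set_option maxHeartbeats 1000000 in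
/-- A relation in a tensor product holds at a finitely presented stage. -/
theorem exists_stage (Q : ModuleCat.{u} A) [Module.FinitePresentation A Q] {B : Type u} [AddCommGroup B] [Module A B]
    {N : Type w} [AddCommGroup N] [Module A N] (b : Q →ₗ[A] B) (z : (Q : Type u) ⊗[A] N) (hz : b.rTensor N z = 0) :
    ∃ (Q' : ModuleCat.{u} A) (_ : Module.FinitePresentation A Q') (T : Q →ₗ[A] Q') (b' : Q' →ₗ[A] B),
      b' ∘ₗ T = b ∧ T.rTensor N z = 0 := by
  classical
  obtain ⟨n, q, hq⟩ := Module.Finite.exists_fin' A Q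
  have hkq : (LinearMap.ker q).FG := Module.FinitePresentation.fg_ker q hq
  obtain ⟨z₀, rfl⟩ := LinearMap.rTensor_surjective N hq z
  let π : (B →₀ A) →ₗ[A] B := Finsupp.linearCombination A id
  let L : (Fin n → A) →ₗ[A] (B →₀ A) :=
    Fintype.linearCombination A fun i => Finsupp.single (b (q (Pi.single i 1))) 1
  have hπL : π ∘ₗ L = b ∘ₗ q := LinearMap.pi_ext fun i x => by
    have hx : Pi.single i x = x • (Pi.single i 1 : Fin n → A) := by rw [← Pi.single_smul, smul_eq_mul, mul_one]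
    rw [hx, map_smul, map_smul]
    congr 1
    simp [π, L, Fintype.linearCombination_apply, Pi.single_apply]
  have hπ : Function.Surjective π := fun y => ⟨Finsupp.single y 1, by simp [π]⟩
  obtain ⟨S₀, hS, hSπ, w₀, hw⟩ := exists_fg_of_rTensor_eq_zero A π hπ (L.rTensor N z₀) (by
    rw [← LinearMap.comp_apply, ← LinearMap.rTensor_comp, hπL, LinearMap.rTensor_comp, LinearMap.comp_apply, hz])
  obtain ⟨g, hg⟩ := hS
  let s : Finset B := (Finset.univ.image fun i => b (q (Pi.single i 1))) ∪ g.biUnion Finsupp.support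
  let e : (↥s →₀ A) →ₗ[A] (B →₀ A) := Finsupp.lmapDomain A A Subtype.val
  let r : (B →₀ A) →ₗ[A] (↥s →₀ A) := Finsupp.lcomapDomain Subtype.val Subtype.val_injective
  have her : ∀ f : B →₀ A, ↑f.support ⊆ (↑s : Set B) → e (r f) = f := fun f hf =>
    Finsupp.mapDomain_comapDomain _ Subtype.val_injective _ (by simpa using hf)
  have herL : e ∘ₗ r ∘ₗ L = L := LinearMap.pi_ext fun i x => by
    refine her _ ?_
    intro y hy
    have hx : L (Pi.single i x) = Finsupp.single (b (q (Pi.single i 1))) x := by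
      simp [L, Fintype.linearCombination_apply, Pi.single_apply]
    rw [hx] at hy
    have := Finsupp.support_single_subset hy
    rw [Finset.mem_singleton] at this
    subst this
    exact Finset.mem_coe.2 (Finset.mem_union_left _ (Finset.mem_image_of_mem _ (Finset.mem_univ i)))
  have herS : ∀ f ∈ S₀, e (r f) = f := fun f hf => by
    have hle : S₀ ≤ LinearMap.eqLocus (e ∘ₗ r) LinearMap.id := by
      rw [show S₀ = Submodule.span A ↑g from hg.symm, Submodule.span_le]
      exact fun f hf => her f fun y hy => Finset.mem_coe.2 (Finset.mem_union_right _ (Finset.mem_biUnion.2 ⟨f, hf, hy⟩))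
    exact hle hf
  let K : Submodule A (↥s →₀ A) := S₀.map r ⊔ (LinearMap.ker q).map (r ∘ₗ L)
  have hK : K.FG := (Submodule.FG.map r (⟨g, hg⟩ : S₀.FG)).sup (hkq.map _)
  have hKle : K ≤ LinearMap.ker (π ∘ₗ e) := by
    refine sup_le ?_ ?_
    · rintro _ ⟨f, hf, rfl⟩
      show π (e (r f)) = 0
      rw [herS f hf]
      exact hSπ hf
    · rintro _ ⟨x, hx, rfl⟩
      show π (e (r (L x))) = 0
      rw [show e (r (L x)) = L x from LinearMap.congr_fun herL x, show π (L x) = b (q x) from LinearMap.congr_fun hπL x,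
        LinearMap.mem_ker.1 hx, map_zero]
  have hker : LinearMap.ker q ≤ LinearMap.ker (K.mkQ ∘ₗ r ∘ₗ L) := fun x hx =>
    (Submodule.Quotient.mk_eq_zero K).2 (Submodule.mem_sup_right ⟨x, hx, rfl⟩)
  haveI : Module.FinitePresentation A ((↥s →₀ A) ⧸ K) :=
    Module.finitePresentation_of_surjective K.mkQ K.mkQ_surjective (by rwa [Submodule.ker_mkQ])
  refine ⟨ModuleCat.of A ((↥s →₀ A) ⧸ K), ‹_›,
    ((LinearMap.ker q).liftQ _ hker) ∘ₗ (q.quotKerEquivOfSurjective hq).symm.toLinearMap,
    K.liftQ _ hKle, ?_, ?_⟩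
  · refine LinearMap.ext fun y => ?_
    obtain ⟨x, rfl⟩ := hq y
    have hsymm : (q.quotKerEquivOfSurjective hq).symm (q x) = Submodule.Quotient.mk x := by
      rw [LinearEquiv.symm_apply_eq]; rfl
    simp only [LinearMap.comp_apply, LinearEquiv.coe_coe, hsymm, Submodule.liftQ_apply, Submodule.mkQ_apply]
    rw [show e (r (L x)) = L x from LinearMap.congr_fun herL x]
    exact LinearMap.congr_fun hπL x
  · have hTq : ((LinearMap.ker q).liftQ _ hker ∘ₗ (q.quotKerEquivOfSurjective hq).symm.toLinearMap) ∘ₗ q =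
        K.mkQ ∘ₗ r ∘ₗ L := LinearMap.ext fun x => by
      have hsymm : (q.quotKerEquivOfSurjective hq).symm (q x) = Submodule.Quotient.mk x := by
        rw [LinearEquiv.symm_apply_eq]; rfl
      simp only [LinearMap.comp_apply, LinearEquiv.coe_coe, hsymm, Submodule.liftQ_apply, Submodule.mkQ_apply]
    rw [← LinearMap.comp_apply, ← LinearMap.rTensor_comp, hTq, ← LinearMap.comp_assoc, LinearMap.rTensor_comp,
      LinearMap.comp_apply, ← hw, ← LinearMap.comp_apply, ← LinearMap.rTensor_comp]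
    have h0 : (K.mkQ ∘ₗ r) ∘ₗ S₀.subtype = 0 := LinearMap.ext fun x =>
      (Submodule.Quotient.mk_eq_zero K).2 (Submodule.mem_sup_left ⟨_, x.2, rfl⟩)
    rw [h0, LinearMap.rTensor_zero, LinearMap.zero_apply]

end Algebra

variable {F G : Adeq.MVF A} {Q : Type u} [AddCommGroup Q] [Module A Q]

/-- The value of the functor of a module, as a tensor product. -/
noncomputable def ev {M : ModuleCat.{u + 1} A} (B : Adeq.Alg A) : (U M).obj (Adeq.pt B) ≃+ (B : Type u) ⊗[A] M :=
  { toFun := fun x => x, invFun := fun x => x, left_inv := fun _ => rfl, right_inv := fun _ => rfl,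
    map_add' := fun _ _ => rfl }

theorem ev_mp {M : ModuleCat.{u + 1} A} {B C : Adeq.Alg A} (f : B ⟶ C) (x : (U M).obj (Adeq.pt B)) :
    ev C (mp (U M) f x) = f.hom.toLinearMap.rTensor M (ev B x) := rfl

theorem ev_ap {M N : ModuleCat.{u + 1} A} (g : M ⟶ N) (B : Adeq.Alg A) (x : (U M).obj (Adeq.pt B)) :
    ev B (ap ((Adeq.underline A).map g) B x) = g.hom.lTensor _ (ev B x) := by
  show g.hom.baseChange B (ev B x) = _
  rw [LinearMap.baseChange_eq_ltensor]

theorem ev_smul {C : Adeq.Alg A} {M : ModuleCat.{u + 1} A} (c : C) (x : (U M).obj (Adeq.pt C)) :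
    ev C (c • x) = (LinearMap.mulLeft A (c : (C : Type u))).rTensor M (ev C x) := by
  obtain ⟨y, rfl⟩ := (ev C).symm.surjective x
  change (c • y : (C : Type u) ⊗[A] M) = (LinearMap.mulLeft A (c : (C : Type u))).rTensor M y
  induction y using TensorProduct.induction_on with
  | zero => simp
  | tmul a m => rw [TensorProduct.smul_tmul', LinearMap.rTensor_tmul, LinearMap.mulLeft_apply, smul_eq_mul]
  | add x y hx hy => rw [smul_add, map_add, hx, hy]

/-- The linear family of a tensor. -/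
noncomputable def ofTensor {M : ModuleCat.{u + 1} A} : Q ⊗[A] M →+ Lin Q (U M) where
  toFun z := ⟨fun C h => (ev C).symm (h.rTensor M z), fun {C D} f h => (ev D).injective (by
      rw [ev_mp, AddEquiv.apply_symm_apply, AddEquiv.apply_symm_apply, ← LinearMap.comp_apply, ← LinearMap.rTensor_comp]),
    fun {C} h h' => by rw [LinearMap.rTensor_add, LinearMap.add_apply, map_add],
    fun {C} c h => (ev C).injective (by
      rw [ev_smul, AddEquiv.apply_symm_apply, AddEquiv.apply_symm_apply, ← LinearMap.comp_apply, ← LinearMap.rTensor_comp]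
      rfl)⟩
  map_zero' := Lin.ext (funext fun C => funext fun h => by simp)
  map_add' a b := Lin.ext (funext fun C => funext fun h => by simp)

@[simp] theorem ev_ofTensor {M : ModuleCat.{u + 1} A} (z : Q ⊗[A] M) (C : Adeq.Alg A) (h : Q →ₗ[A] (C : Type u)) :
    ev C ((ofTensor z).app C h) = h.rTensor M z := (ev C).apply_symm_apply _

theorem Lin.app_smul (ξ : Lin Q F) {C : Adeq.Alg A} (r : (Po C : Type u)) (h : Q →ₗ[A] (C : Type u)) :
    ξ.app (Po C) (r • ((inc C).hom.toLinearMap ∘ₗ h)) = r • mp F (inc C) (ξ.app C h) :=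
  (ξ.smul (C := Po C) r _).trans (congrArg (r • ·) (ξ.nat _ _).symm)

theorem Lin.app_tw (ξ : Lin Q F) (C : Adeq.Alg A) (h : Q →ₗ[A] (C : Type u)) :
    ξ.app (Po C) (tw A h) = ((Polynomial.X : Polynomial (C : Type u)) : (Po C : Type u)) • mp F (inc C) (ξ.app C h) :=
  ξ.app_smul (Polynomial.X : Polynomial (C : Type u)) h

theorem co_comp_X (C : Adeq.Alg A) :
    (co A (C : Type u) 1 ∘ₗ LinearMap.mulLeft A (Polynomial.X : Polynomial (C : Type u))) ∘ₗ (inc C).hom.toLinearMap =
      LinearMap.id :=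
  LinearMap.ext fun a => by simp [co_apply, inc, Polynomial.coeff_X_mul]

theorem exists_ofTensor_eq {M : ModuleCat.{u + 1} A} (ξ : Lin Q (U M)) : ∃ z, ofTensor z = ξ := by
  let zS : (Sy A Q : Type u) ⊗[A] M := ev _ (ξ.app (Sy A Q) (ιS A Q))
  refine ⟨(p₁ A Q).rTensor M zS, Lin.ext (funext fun C => funext fun h => (ev C).injective ?_)⟩
  have h1 : ev (Po C) (ξ.app (Po C) (tw A h)) = (SymmetricAlgebra.lift (tw A h)).toLinearMap.rTensor M zS := by
    rw [ξ.app_eq (C := Po C) (tw A h), ev_mp]; rfl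
  rw [ev_ofTensor, ← LinearMap.comp_apply, ← LinearMap.rTensor_comp, ← co_one_lift, LinearMap.rTensor_comp,
    LinearMap.comp_apply, ← h1, ξ.app_tw, ev_smul, ev_mp, ← LinearMap.comp_apply, ← LinearMap.comp_apply,
    ← LinearMap.rTensor_comp, ← LinearMap.rTensor_comp]
  exact (congrArg (fun w : (C : Type u) →ₗ[A] (C : Type u) => w.rTensor M (ev C (ξ.app C h))) (co_comp_X C)).trans
    (by rw [LinearMap.rTensor_id, LinearMap.id_apply])

theorem co_comp_X_pow (C : Adeq.Alg A) (l k : ℕ) :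
    (co A (C : Type u) k ∘ₗ LinearMap.mulLeft A ((Polynomial.X : Polynomial (C : Type u)) ^ l)) ∘ₗ
        (inc C).hom.toLinearMap = if l = k then LinearMap.id else 0 :=
  LinearMap.ext fun c => by
    simp [co_apply, inc, Polynomial.coeff_X_pow_mul', Polynomial.coeff_C]
    split_ifs <;> first | omega | simp_all

theorem ev_psum_coeff {M : ModuleCat.{u + 1} A} (C : Adeq.Alg A) (k : ℕ) (y : ℕ →₀ (U M).obj (Adeq.pt C)) :
    (co A (C : Type u) k).rTensor M (ev (Po C) (psum (U M) C y)) = ev C (y k) := by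
  induction y using Finsupp.induction_linear with
  | zero => simp
  | add a b ha hb => rw [map_add, map_add, map_add, ha, hb, Finsupp.add_apply, map_add]
  | single l a =>
    rw [psum_single, ev_smul, ev_mp, ← LinearMap.comp_apply, ← LinearMap.comp_apply, ← LinearMap.rTensor_comp,
      ← LinearMap.rTensor_comp]
    refine (congrArg (fun w : (C : Type u) →ₗ[A] (C : Type u) => w.rTensor M (ev C a)) (co_comp_X_pow C l k)).trans ?_
    by_cases hlk : l = k
    · subst hlk; simp
    · rw [if_neg hlk, Finsupp.single_eq_of_ne (Ne.symm hlk), LinearMap.rTensor_zero, map_zero]; rfl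

theorem poly_underline (M : ModuleCat.{u + 1} A) : Poly (U M) := by
  intro C
  constructor
  · refine (injective_iff_map_eq_zero (psum (U M) C)).2 fun x hx => Finsupp.ext fun k => (ev C).injective ?_
    rw [← ev_psum_coeff, hx, map_zero, map_zero, Finsupp.coe_zero, Pi.zero_apply, map_zero]
  · intro z
    obtain ⟨z, rfl⟩ := (ev (Po C)).symm.surjective z
    induction z using TensorProduct.induction_on with
    | zero => exact ⟨0, by simp⟩
    | add a b ha hb =>
      obtain ⟨x, hx⟩ := ha; obtain ⟨y, hy⟩ := hb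
      exact ⟨x + y, by rw [map_add, hx, hy, map_add]⟩
    | tmul f m =>
      induction f using Polynomial.induction_on' with
      | add a b ha hb =>
        obtain ⟨x, hx⟩ := ha; obtain ⟨y, hy⟩ := hb
        exact ⟨x + y, by rw [map_add, hx, hy, TensorProduct.add_tmul, map_add]⟩
      | monomial l a =>
        refine ⟨Finsupp.single l ((ev C).symm (a ⊗ₜ m)), (ev (Po C)).injective ?_⟩
        rw [psum_single, ev_smul, ev_mp, AddEquiv.apply_symm_apply, AddEquiv.apply_symm_apply]
        rw [LinearMap.rTensor_tmul, LinearMap.rTensor_tmul]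
        refine congrArg (· ⊗ₜ[A] m) ?_
        show (Polynomial.X : Polynomial (C : Type u)) ^ l * Polynomial.C a = Polynomial.monomial l a
        rw [← Polynomial.C_mul_X_pow_eq_monomial, mul_comm]

/-- Functors presented by linear families. -/
structure Good (F : Adeq.MVF A) : Prop where
  gen : ∀ (B : Adeq.Alg A) (x : F.obj (Adeq.pt B)), ∃ (Q : ModuleCat.{u} A) (_ : Module.FinitePresentation A Q)
    (ξ : Lin Q F) (b : Q →ₗ[A] (B : Type u)), ξ.app B b = x
  rel : ∀ (Q : ModuleCat.{u} A) [Module.FinitePresentation A Q] (ξ : Lin Q F) (B : Adeq.Alg A) (b : Q →ₗ[A] (B : Type u)),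
    ξ.app B b = 0 → ∃ (Q' : ModuleCat.{u} A) (_ : Module.FinitePresentation A Q') (T : Q →ₗ[A] Q')
      (b' : Q' →ₗ[A] (B : Type u)), b' ∘ₗ T = b ∧ Lin.push T ξ = 0
  poly : Poly F

theorem good_of_adequate (hF : Adeq.adequate A F) : Good F := by
  obtain ⟨M, N, φ, ι, h⟩ := adequate_iff.1 hF
  have hinj : ∀ B, Function.Injective (ap ι B) := fun B => (h B).1
  refine ⟨fun B x => ?_, fun Q _ ξ B b hb => ?_,
    Poly.of_kernel ι _ h (poly_underline M) (fun C => (poly_underline N C).1)⟩
  · obtain ⟨S, hS, z, hz⟩ := exists_fg_range A (ev B (ap ι B x))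
    haveI : Module.Finite A S := Module.Finite.iff_fg.2 hS
    obtain ⟨n, f, hf⟩ := Module.Finite.exists_fin' A S
    obtain ⟨z₀, hz₀⟩ := LinearMap.rTensor_surjective M hf z
    let b₀ : (ModuleCat.of A (Fin n → A) : Type u) →ₗ[A] (B : Type u) := S.subtype ∘ₗ f
    have hb₀ : b₀.rTensor M z₀ = ev B (ap ι B x) := by
      rw [LinearMap.rTensor_comp, LinearMap.comp_apply, hz₀, hz]
    have h0 : b₀.rTensor N (φ.hom.lTensor _ z₀) = 0 := by
      rw [← LinearMap.comp_apply, LinearMap.rTensor_comp_lTensor, ← LinearMap.lTensor_comp_rTensor, LinearMap.comp_apply,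
        hb₀, ← ev_ap, ((h B).2 (ap ι B x)).2 ⟨x, rfl⟩, map_zero]
    obtain ⟨Q', hQ', T, b', hT, hT0⟩ := exists_stage A (ModuleCat.of A (Fin n → A)) b₀ (φ.hom.lTensor _ z₀) h0
    obtain ⟨η, hη⟩ := Lin.exists_post_eq ι hinj (Lin.push T (ofTensor z₀)) fun C g => ((h C).2 _).1 ((ev C).injective (by
      rw [Lin.push_app, ev_ap, ev_ofTensor, ← LinearMap.comp_apply,
        LinearMap.lTensor_comp_rTensor, ← LinearMap.rTensor_comp_lTensor, LinearMap.comp_apply, LinearMap.rTensor_comp,
        LinearMap.comp_apply, hT0, map_zero, map_zero]))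
    refine ⟨Q', hQ', η, b', hinj B ((ev B).injective ?_)⟩
    rw [← Lin.post_app ι η B b', hη, Lin.push_app, hT, ev_ofTensor, hb₀]
  · obtain ⟨z, hz⟩ := exists_ofTensor_eq (Lin.post ι ξ)
    have h0 : b.rTensor M z = 0 := by
      rw [← ev_ofTensor, hz, Lin.post_app, hb, map_zero, map_zero]
    obtain ⟨Q', hQ', T, b', hT, hT0⟩ := exists_stage A Q b z h0
    refine ⟨Q', hQ', T, b', hT,
      Lin.post_injective ι hinj (Lin.ext (funext fun C => funext fun g => (ev C).injective ?_))⟩
    rw [Lin.post_app, Lin.push_app, ← Lin.post_app ι ξ C (g ∘ₗ T), ← hz, ev_ofTensor, LinearMap.rTensor_comp,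
      LinearMap.comp_apply, hT0, map_zero, map_zero, Lin.zero_app, map_zero]

theorem good_underline (M : ModuleCat.{u + 1} A) : Good (U M) :=
  good_of_adequate (adequate_iff.2 ⟨M, M, 0, 𝟙 _, fun B => ⟨fun x y e => e, fun x =>
    ⟨fun _ => ⟨x, rfl⟩, fun _ => congrArg (fun w => ap w B x) ((Adeq.underline A).map_zero M M)⟩⟩⟩)

theorem bound_degree {C : Type u} [CommRing C] [Algebra A C] [Module.Finite A Q] (g : Q →ₗ[A] Polynomial C) :
    ∃ N, ∀ x : Q, ∀ k ≥ N, (g x).coeff k = 0 := by
  obtain ⟨s, hs⟩ := Module.Finite.fg_top (R := A) (M := Q)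
  refine ⟨(s.sup fun x => (g x).natDegree) + 1, fun x k hk => ?_⟩
  have hle : Submodule.span A ↑s ≤ LinearMap.ker (co A C k ∘ₗ g) := Submodule.span_le.2 fun y hy =>
    Polynomial.coeff_eq_zero_of_natDegree_lt (lt_of_le_of_lt (Finset.le_sup (f := fun x => (g x).natDegree) hy) hk)
  exact hle (hs.symm ▸ Submodule.mem_top)

theorem psum_lin [Module.Finite A Q] (η : Lin Q F) (C : Adeq.Alg A) (g : Q →ₗ[A] (Po C : Type u)) :
    ∃ x : ℕ →₀ F.obj (Adeq.pt C), psum F C x = η.app (Po C) g ∧
      ∀ k, x k = η.app C (co A (C : Type u) k ∘ₗ g) := by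
  obtain ⟨N, hN⟩ := bound_degree (C := (C : Type u)) g
  refine ⟨∑ k ∈ Finset.range N, Finsupp.single k (η.app C (co A (C : Type u) k ∘ₗ g)), ?_, fun k => ?_⟩
  · have hg : g = ∑ k ∈ Finset.range N, ((Polynomial.X : Polynomial (C : Type u)) ^ k : (Po C : Type u)) •
        ((inc C).hom.toLinearMap ∘ₗ (co A (C : Type u) k ∘ₗ g)) := by
      refine LinearMap.ext fun x => Polynomial.ext fun l => ?_
      simp only [LinearMap.coe_sum, Finset.sum_apply, LinearMap.smul_apply, LinearMap.comp_apply]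
      erw [Polynomial.finsetSum_coeff]
      simp [inc, co_apply, smul_eq_mul, Polynomial.coeff_X_pow_mul', Polynomial.coeff_C]
      exact fun hl => hN x l hl
    rw [map_sum]
    conv_rhs => rw [hg]
    let e : (Q →ₗ[A] (Po C : Type u)) →+ F.obj (Adeq.pt (Po C)) := AddMonoidHom.mk' (η.app (Po C)) η.add
    rw [show ∀ w, η.app (Po C) w = e w from fun w => rfl, map_sum]
    refine Finset.sum_congr rfl fun k _ => ?_
    rw [psum_single]
    exact (η.app_smul _ _).symm
  · rw [Finsupp.finsetSum_apply]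
    by_cases hk : k < N
    · rw [Finset.sum_eq_single k (fun l _ hl => Finsupp.single_eq_of_ne (Ne.symm hl))
        (fun h => absurd (Finset.mem_range.2 hk) h), Finsupp.single_eq_same]
    · rw [Finset.sum_eq_zero fun l hl => Finsupp.single_eq_of_ne (by rintro rfl; exact hk (Finset.mem_range.1 hl)),
        show co A (C : Type u) k ∘ₗ g = 0 from LinearMap.ext fun x => hN x k (not_lt.1 hk), η.app_zero]

/-- A natural homogeneous family in a generated functor with polynomial values is linear; it lifts along any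
morphism from such a functor. -/
theorem exists_lift_family {π : F ⟶ G} (hgen : ∀ (B : Adeq.Alg A) (x : G.obj (Adeq.pt B)), ∃ (Q : ModuleCat.{u} A)
      (_ : Module.FinitePresentation A Q) (ξ : Lin Q F) (b : Q →ₗ[A] (B : Type u)), ap π B (ξ.app B b) = x)
    (hG : ∀ C, Function.Injective (psum G C))
    (e : ∀ C : Adeq.Alg A, (Q →ₗ[A] (C : Type u)) → G.obj (Adeq.pt C))
    (hnat : ∀ {C D : Adeq.Alg A} (f : C ⟶ D) (h : Q →ₗ[A] (C : Type u)), mp G f (e C h) = e D (f.hom.toLinearMap ∘ₗ h))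
    (hom : ∀ (C : Adeq.Alg A) (h : Q →ₗ[A] (C : Type u)),
      e (Po C) (tw A h) = ((Polynomial.X : Polynomial (C : Type u)) : (Po C : Type u)) • mp G (inc C) (e C h)) :
    ∃ η : Lin Q F, ∀ C h, ap π C (η.app C h) = e C h := by
  obtain ⟨Q₀, _, η₀, b₀, hb₀⟩ := hgen (Sy A Q) (e (Sy A Q) (ιS A Q))
  refine ⟨Lin.push (p₁ A Q ∘ₗ b₀) η₀, fun C h => ?_⟩
  obtain ⟨x, hx, hxk⟩ := psum_lin (Lin.post π η₀) C ((ψ (C := Po C) (tw A h)).hom.toLinearMap ∘ₗ b₀)
  have h1 : psum G C (Finsupp.single 1 (e C h)) = psum G C x := by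
    rw [hx, psum_single, pow_one, ← hom, ← (Lin.post π η₀).nat, Lin.post_app, hb₀, hnat, ψ_ι]
  have h2 := congrArg (fun w => w 1) (hG C h1)
  simp only [Finsupp.single_eq_same] at h2
  rw [h2, hxk, Lin.post_app, Lin.push_app]
  congr 2
  rw [← LinearMap.comp_assoc, ← LinearMap.comp_assoc, ← co_one_lift]
  rfl

theorem Good.exists_lin (hF : Good F) (e : ∀ C : Adeq.Alg A, (Q →ₗ[A] (C : Type u)) → F.obj (Adeq.pt C))
    (hnat : ∀ {C D : Adeq.Alg A} (f : C ⟶ D) (h : Q →ₗ[A] (C : Type u)), mp F f (e C h) = e D (f.hom.toLinearMap ∘ₗ h))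
    (hom : ∀ (C : Adeq.Alg A) (h : Q →ₗ[A] (C : Type u)),
      e (Po C) (tw A h) = ((Polynomial.X : Polynomial (C : Type u)) : (Po C : Type u)) • mp F (inc C) (e C h)) :
    ∃ η : Lin Q F, ∀ C h, η.app C h = e C h :=
  exists_lift_family (π := 𝟙 F) (fun B x => by
    obtain ⟨Q', hQ', ξ, b, hb⟩ := hF.gen B x
    exact ⟨Q', hQ', ξ, b, hb⟩) (fun C => (hF.poly C).1) e hnat hom

end Groth.Agent.AdeqFound
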