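import Groth.Agent.AdeqFound.Ext
import Mathlib.LinearAlgebra.TensorProduct.Basis
import Mathlib.Algebra.Homology.ShortComplex.Exact

/-!
# Linearly adequate functors
-/

set_option autoImplicit false

universe u

open CategoryTheory Limits TensorProduct Opposite

namespace Groth.Agent.AdeqFound

variable {A : Type u} [CommRing A] {F L : Adeq.MVF A} {Q : Type u} [AddCommGroup Q] [Module A Q]

section Rows

variable {n m : ℕ} (v : Fin m → Fin n → A)

/-- The cokernel of the transposed matrix. -/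
abbrev QR : Type u := (Fin n → A) ⧸ Submodule.span A (Set.range v)

/-- The generators of the cokernel. -/
noncomputable abbrev qr (i : Fin n) : QR v := Submodule.Quotient.mk (Pi.single i (1 : A))

instance : Module.FinitePresentation A (QR v) :=
  Module.finitePresentation_of_surjective (Submodule.span A (Set.range v)).mkQ (Submodule.mkQ_surjective _)
    (by rw [Submodule.ker_mkQ]; exact Submodule.fg_span (Set.finite_range v))

theorem sum_qr (j : Fin m) : ∑ i, v j i • qr v i = 0 := by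
  have h : ∑ i, v j i • (Pi.single i (1 : A) : Fin n → A) = v j := (pi_eq_sum_univ' (v j)).symm
  calc ∑ i, v j i • qr v i = (Submodule.span A (Set.range v)).mkQ (∑ i, v j i • (Pi.single i (1 : A) : Fin n → A)) := by
        rw [map_sum]; rfl
    _ = 0 := by rw [h]; exact (Submodule.Quotient.mk_eq_zero _).2 (Submodule.subset_span ⟨j, rfl⟩)

theorem qr_span {C : Type*} [AddCommGroup C] [Module A C] (h h' : QR v →ₗ[A] C) (e : ∀ i, h (qr v i) = h' (qr v i)) :
    h = h' :=
  Submodule.linearMap_qext _ ((Pi.basisFun A (Fin n)).ext fun i => by simpa [Pi.basisFun_apply] using e i)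

theorem qr_lift {C : Type*} [AddCommGroup C] [Module A C] (c : Fin n → C) (hc : ∀ j, ∑ i, v j i • c i = 0) :
    ∃ h : QR v →ₗ[A] C, ∀ i, h (qr v i) = c i :=
  ⟨(Submodule.span A (Set.range v)).liftQ (Fintype.linearCombination A c) (Submodule.span_le.2 (by
      rintro _ ⟨j, rfl⟩
      exact (Fintype.linearCombination_apply A c (v j)).trans (hc j))),
    fun i => by simp [qr, Fintype.linearCombination_apply, Pi.single_apply]⟩

variable {M N : ModuleCat.{u + 1} A} (bM : Module.Basis (Fin n) A M) (bN : Module.Basis (Fin m) A N)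

/-- The universal tensor. -/
noncomputable def zR : (QR v) ⊗[A] M := ∑ i, qr v i ⊗ₜ bM i

theorem rTensor_zR {C : Type u} [AddCommGroup C] [Module A C] (h : QR v →ₗ[A] C) :
    h.rTensor M (zR v bM) = ∑ i, h (qr v i) ⊗ₜ bM i := by
  simp [zR]

theorem coeff_sum_tmul {C : Type u} [AddCommGroup C] [Module A C] (c : Fin n → C) (i : Fin n) :
    TensorProduct.equivFinsuppOfBasisRight bM (∑ i, c i ⊗ₜ bM i) i = c i := by
  rw [map_sum, Finsupp.finsetSum_apply, Finset.sum_eq_single i] <;> simp +contextual [Finsupp.single_eq_of_ne]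

theorem exists_universal (φ : M ⟶ N) (hφ : ∀ i, φ.hom (bM i) = ∑ j, v j i • bN j) :
    ∃ ζ : Lin (QR v) (kernel ((Adeq.underline A).map φ)), (∀ B, Function.Bijective (ζ.app B)) ∧
      Lin.post (kernel.ι _) ζ = ofTensor (zR v bM) := by
  obtain ⟨ζ, hζ⟩ := Lin.exists_post_eq (kernel.ι ((Adeq.underline A).map φ)) (fun B => ap_inj_of_mono _ B)
    (ofTensor (zR v bM)) fun C h => (exists_kernel_pre _ C _).1 ((ev C).injective (by
      rw [ev_ap, ev_ofTensor, rTensor_zR, map_zero, map_sum]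
      simp only [LinearMap.lTensor_tmul, hφ, TensorProduct.tmul_sum]
      rw [Finset.sum_comm]
      refine Finset.sum_eq_zero fun j _ => ?_
      simp only [TensorProduct.tmul_smul, TensorProduct.smul_tmul', ← map_smul, ← TensorProduct.sum_tmul, ← map_sum]
      rw [sum_qr, map_zero, TensorProduct.zero_tmul]))
  have hev : ∀ (B : Adeq.Alg A) (h : QR v →ₗ[A] (B : Type u)),
      ev B (ap (kernel.ι ((Adeq.underline A).map φ)) B (ζ.app B h)) = ∑ i, h (qr v i) ⊗ₜ bM i := fun B h => by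
    rw [← Lin.post_app, hζ, ev_ofTensor, rTensor_zR]
  refine ⟨ζ, fun B => ⟨fun h h' e => qr_span v h h' fun i => ?_, fun x => ?_⟩, hζ⟩
  · have h1 := congrArg (fun w => TensorProduct.equivFinsuppOfBasisRight bM w i)
      ((hev B h).symm.trans ((congrArg (fun w => ev B (ap (kernel.ι _) B w)) e).trans (hev B h')))
    simpa only [coeff_sum_tmul bM (fun i => h (qr v i)) i, coeff_sum_tmul bM (fun i => h' (qr v i)) i] using h1
  · let w : (B : Type u) ⊗[A] M := ev B (ap (kernel.ι ((Adeq.underline A).map φ)) B x)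
    have hw0 : φ.hom.lTensor _ w = 0 := by
      rw [← ev_ap, (exists_kernel_pre _ B _).2 ⟨x, rfl⟩, map_zero]
    let c : Fin n → (B : Type u) := fun i => TensorProduct.equivFinsuppOfBasisRight bM w i
    have hw : w = ∑ i, c i ⊗ₜ bM i := (TensorProduct.equivFinsuppOfBasisRight bM).injective
      (Finsupp.ext fun i => (coeff_sum_tmul bM c i).symm)
    rw [hw, map_sum] at hw0
    simp only [LinearMap.lTensor_tmul, hφ, TensorProduct.tmul_sum] at hw0
    rw [Finset.sum_comm] at hw0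
    simp only [TensorProduct.tmul_smul, TensorProduct.smul_tmul', ← TensorProduct.sum_tmul] at hw0
    obtain ⟨h, hh⟩ := qr_lift v c fun j => by
      have h1 := congrArg (fun z => TensorProduct.equivFinsuppOfBasisRight bN z j) hw0
      simpa only [coeff_sum_tmul bN (fun j => ∑ i, v j i • c i) j, map_zero, Finsupp.coe_zero, Pi.zero_apply] using h1
    refine ⟨h, ap_inj_of_mono (kernel.ι _) B ((ev B).injective ?_)⟩
    rw [hev]
    simp only [hh]
    exact hw.symm

end Rows

theorem exists_universal_kernel {P P' : ModuleCat.{u + 1} A} [Module.Finite A P] [Module.Free A P]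
    [Module.Finite A P'] [Module.Free A P'] (φ : P ⟶ P') :
    ∃ (n m : ℕ) (v : Fin m → Fin n → A) (bM : Module.Basis (Fin n) A P) (ζ : Lin (QR v) (kernel ((Adeq.underline A).map φ))),
      (∀ B, Function.Bijective (ζ.app B)) ∧ Lin.post (kernel.ι _) ζ = ofTensor (zR v bM) := by
  let bM : Module.Basis (Fin _) A P := (Module.Free.chooseBasis A P).reindex (Fintype.equivFin _)
  let bN : Module.Basis (Fin _) A P' := (Module.Free.chooseBasis A P').reindex (Fintype.equivFin _)
  exact ⟨_, _, _, bM, exists_universal (fun j i => bN.repr (φ.hom (bM i)) j) bM bN φ fun i => (bN.sum_repr _).symm⟩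

theorem exists_universal_linAdequate (hL : Adeq.linAdequate A L) :
    ∃ (Q : ModuleCat.{u} A) (_ : Module.FinitePresentation A Q) (ζ : Lin Q L), ∀ B, Function.Bijective (ζ.app B) := by
  obtain ⟨M, N, φ, hM, hM', hN, hN', ⟨e⟩⟩ := hL
  haveI := hM; haveI := hM'; haveI := hN; haveI := hN'
  obtain ⟨n, m, v, bM, ζ, hζ, -⟩ := exists_universal_kernel φ
  refine ⟨ModuleCat.of A (QR v), inferInstanceAs (Module.FinitePresentation A (QR v)), Lin.post e.inv ζ, fun B =>
    (Function.Bijective.comp (g := ⇑(ap e.inv B)) ⟨ap_inj_of_mono e.inv B, ap_surj_of_epi e.inv B⟩ (hζ B) :)⟩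

theorem adequate_of_linAdequate (hL : Adeq.linAdequate A L) : Adeq.adequate A L := by
  obtain ⟨M, N, φ, -, -, -, -, e⟩ := hL
  exact ⟨M, N, φ, e⟩

theorem exists_desc {ζ : Lin Q L} (hζ : ∀ B, Function.Bijective (ζ.app B)) (ξ : Lin Q F) :
    ∃ f : L ⟶ F, ∀ (B : Adeq.Alg A) h, ap f B (ζ.app B h) = ξ.app B h := by
  let i : ∀ B : Adeq.Alg A, L.obj (Adeq.pt B) → (Q →ₗ[A] (B : Type u)) := fun B => Function.surjInv (hζ B).2
  have hi : ∀ (B : Adeq.Alg A) x, ζ.app B (i B x) = x := fun B => Function.surjInv_eq (hζ B).2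
  refine ⟨mkHom (fun B => { toFun := fun x => ξ.app B (i B x), map_add' := fun x y => ?_, map_smul' := fun c x => ?_ })
    (fun {B C} f x => ?_), fun B h => congrArg (ξ.app B) ((hζ B).1 (hi B _))⟩
  · rw [← ξ.add]; exact congrArg _ ((hζ B).1 (by rw [hi, ζ.add, hi, hi]))
  · rw [RingHom.id_apply, ← ξ.smul]; exact congrArg _ ((hζ B).1 (by rw [hi, ζ.smul, hi]))
  · show ξ.app C (i C (mp L f x)) = mp F f (ξ.app B (i B x))
    rw [ξ.nat]; exact congrArg _ ((hζ C).1 (by rw [hi, ← ζ.nat, hi]))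

theorem exists_epi_of_joint {I : Type (u + 1)} (L : I → Adeq.MVF A) (f : ∀ i, L i ⟶ F)
    (h : ∀ (B : Adeq.Alg A) (x : F.obj (Adeq.pt B)), ∃ i y, ap (f i) B y = x) :
    ∃ (c : Cofan L) (_ : IsColimit c) (π : c.pt ⟶ F), Epi π := by
  refine ⟨Cofan.mk _ (Sigma.ι L), coproductIsCoproduct _, Sigma.desc f,
    PresheafOfModules.epi_of_surjective fun X x => ?_⟩
  obtain ⟨i, y, hy⟩ := h X.unop.unop x
  refine ⟨ap (Sigma.ι L i) X.unop.unop y, ?_⟩
  show ap (Sigma.desc f) X.unop.unop _ = x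
  rw [← ap_comp, colimit.ι_desc]
  exact hy

theorem exists_epi_cofan (hF : Good F) :
    ∃ (I : Type (u + 1)) (L : I → Adeq.MVF A), (∀ i, Adeq.linAdequate A (L i)) ∧
      ∃ (c : Cofan L) (_ : IsColimit c) (π : c.pt ⟶ F), Epi π := by
  let I : Type (u + 1) := Σ (n : ℕ) (m : ℕ) (v : Fin m → Fin n → A), Lin (QR v) F
  let Mo : ℕ → ModuleCat.{u + 1} A := fun n => ModuleCat.of A (ULift.{u + 1} (Fin n → A))
  let b : ∀ n, Module.Basis (Fin n) A (Mo n) := fun n => (Pi.basisFun A (Fin n)).map ULift.moduleEquiv.symm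
  let φ : ∀ i : I, Mo i.1 ⟶ Mo i.2.1 := fun i =>
    ModuleCat.ofHom ((b i.1).constr A fun k => ∑ j, i.2.2.1 j k • b i.2.1 j)
  have hφ : ∀ (i : I) k, (φ i).hom (b i.1 k) = ∑ j, i.2.2.1 j k • b i.2.1 j := fun i k => (b i.1).constr_basis A _ k
  choose ζ hζ using fun i : I => exists_universal i.2.2.1 (b i.1) (b i.2.1) (φ i) (hφ i)
  choose f hf using fun i : I => exists_desc (hζ i).1 i.2.2.2
  refine ⟨I, fun i => kernel ((Adeq.underline A).map (φ i)), fun i => ⟨_, _, φ i, Module.Finite.of_basis (b _),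
    Module.Free.of_basis (b _), Module.Finite.of_basis (b _), Module.Free.of_basis (b _), ⟨Iso.refl _⟩⟩,
    exists_epi_of_joint _ f fun B x => ?_⟩
  obtain ⟨Q, hQ, ξ, h, hx⟩ := hF.gen B x
  haveI := hQ
  obtain ⟨n, q, hq⟩ := Module.Finite.exists_fin' A Q
  obtain ⟨m, v, hv⟩ := Submodule.fg_iff_exists_fin_generating_family.1 (Module.FinitePresentation.fg_ker q hq)
  let e : (Q : Type u) ≃ₗ[A] QR v := (q.quotKerEquivOfSurjective hq).symm.trans (Submodule.quotEquivOfEq _ _ hv.symm)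
  let i : I := ⟨n, m, v, Lin.push e.toLinearMap ξ⟩
  refine ⟨i, (ζ i).app B (h ∘ₗ e.symm.toLinearMap), (hf i _ _).trans ?_⟩
  rw [← hx]
  exact congrArg (ξ.app _) (LinearMap.ext fun y => by simp [LinearMap.comp_apply])

theorem exists_extension_of_kernel {P P' M : ModuleCat.{u + 1} A} [Module.Finite A P] [Module.Free A P]
    [Module.Finite A P'] [Module.Free A P'] (φ₀ : P ⟶ P') (φ : kernel ((Adeq.underline A).map φ₀) ⟶ U M) :
    ∃ g : P ⟶ M, kernel.ι ((Adeq.underline A).map φ₀) ≫ (Adeq.underline A).map g = φ := by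
  obtain ⟨n, m, v, bM, ζ, hζ, hpost⟩ := exists_universal_kernel φ₀
  obtain ⟨z, hz⟩ := exists_ofTensor_eq (Lin.post φ ζ)
  obtain ⟨z₀, hz₀⟩ := LinearMap.rTensor_surjective M (Submodule.mkQ_surjective (Submodule.span A (Set.range v))) z
  obtain ⟨w, hw⟩ := sum_tmul_basis z₀
  refine ⟨ModuleCat.ofHom (bM.constr A w), hom_ext fun B x => (ev B).injective ?_⟩
  obtain ⟨h, rfl⟩ := (hζ B).2 x
  rw [ap_comp, ev_ap, ← Lin.post_app (kernel.ι _) ζ, hpost, ev_ofTensor, rTensor_zR, map_sum,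
    ← Lin.post_app φ ζ, ← hz, ev_ofTensor, ← hz₀, hw, map_sum, map_sum]
  refine Finset.sum_congr rfl fun i _ => ?_
  simp [Module.Basis.constr_basis]

theorem splitting_and_good (S : ShortComplex (Adeq.MVF A)) (hS : S.ShortExact) {M : ModuleCat.{u + 1} A}
    (e : S.X₁ ≅ U M) (hL : Adeq.linAdequate A S.X₃) : Nonempty S.Splitting ∧ Good S.X₂ := by
  have h₁ : Good S.X₁ := good_iff.2 ((Adeq.adequate A).prop_of_iso e.symm (good_iff.1 (good_underline M)))
  have h₃ : Good S.X₃ := good_iff.2 (adequate_of_linAdequate hL)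
  haveI := hS.mono_f
  haveI := hS.epi_g
  have h₂ := good_of_shortExact S hS h₁ h₃
  obtain ⟨Q, -, ζ, hζ⟩ := exists_universal_linAdequate hL
  obtain ⟨ζ', hζ'⟩ := exists_lift_lin h₁ h₂.poly S.f S.g (ap_inj_of_mono _) (ap_surj_of_epi _) (exact_ap S hS.exact)
    h₃.poly ζ
  obtain ⟨s, hs⟩ := exists_desc hζ ζ'
  refine ⟨⟨ShortComplex.Splitting.ofExactOfSection S hS.exact s (hom_ext fun B x => ?_) inferInstance⟩, h₂⟩
  obtain ⟨h, rfl⟩ := (hζ B).2 x
  rw [ap_comp, hs, ← Lin.post_app S.g, hζ']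
  rfl

end Groth.Agent.AdeqFound
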