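import Groth.Agent.AdeqFound.Basic
import Mathlib.Algebra.Category.ModuleCat.EnoughInjectives
import Mathlib.CategoryTheory.Preadditive.Injective.Basic

/-!
# Enough injectives in module valued functors
-/

set_option autoImplicit false

universe u

open CategoryTheory Limits Opposite

namespace Groth.Agent.AdeqFound

variable {A : Type u} [CommRing A]

section Coinduced

variable (I : ∀ B : Adeq.Alg A, ModuleCat.{u + 1} (B : Type u))

/-- A factor of the coinduced functor. -/
abbrev Fac (C : Adeq.Alg A) (p : Σ B : Adeq.Alg A, C ⟶ B) : Type (u + 1) :=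
  (ModuleCat.restrictScalars p.2.hom.toRingHom).obj (I p.1)

/-- The underlying functor of the coinduced functor. -/
noncomputable abbrev coindAb : (Adeq.Alg A)ᵒᵖᵒᵖ ⥤ Ab.{u + 1} where
  obj X := AddCommGrpCat.of (∀ p, Fac I X.unop.unop p)
  map {X Y} f := AddCommGrpCat.ofHom
    (AddMonoidHom.mk' (fun (x : ∀ p, Fac I X.unop.unop p) (p : Σ B : Adeq.Alg A, Y.unop.unop ⟶ B) =>
      ((x ⟨p.1, f.unop.unop ≫ p.2⟩ : I p.1) : Fac I Y.unop.unop p)) fun x y => rfl)
  map_id X := rfl
  map_comp f g := rfl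

/-- The coinduced functor. -/
noncomputable def coind : Adeq.MVF A :=
  letI : ∀ X : (Adeq.Alg A)ᵒᵖᵒᵖ, Module ((Adeq.ringOf A).obj X) ((coindAb I).obj X) := fun X =>
    inferInstanceAs (Module (X.unop.unop : Type u) (∀ p, Fac I X.unop.unop p))
  PresheafOfModules.ofPresheaf (coindAb I) fun X Y f r m => funext fun p => by
    show (f.unop.unop ≫ p.2).hom r • ((m ⟨p.1, f.unop.unop ≫ p.2⟩ : I p.1)) =
      p.2.hom (f.unop.unop.hom r) • ((m ⟨p.1, f.unop.unop ≫ p.2⟩ : I p.1))
    rfl

/-- The value of the coinduced functor at an identity. -/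
noncomputable def evI (B : Adeq.Alg A) : (coind I).obj (Adeq.pt B) →ₗ[(B : Type u)] I B where
  toFun x := (show I B from (show ∀ p, Fac I B p from x) ⟨B, 𝟙 B⟩)
  map_add' x y := rfl
  map_smul' c x := rfl

variable {I}

theorem coind_injective (hI : ∀ B, Injective (I B)) : Injective (coind I) := by
  refine ⟨fun {X Y} g f _ => ?_⟩
  have h : ∀ B : Adeq.Alg A, ∃ e : Y.obj (Adeq.pt B) →ₗ[(B : Type u)] I B,
      ∀ x, e (ap f B x) = evI I B (ap g B x) := fun B => by
    haveI := hI B
    haveI : Mono (ModuleCat.ofHom (ap f B)) := (ModuleCat.mono_iff_injective _).2 (ap_inj_of_mono f B)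
    exact ⟨(Injective.factorThru (ModuleCat.ofHom (evI I B ∘ₗ ap g B)) (ModuleCat.ofHom (ap f B))).hom,
      fun x => congrArg (fun w => w.hom x)
        (Injective.comp_factorThru (ModuleCat.ofHom (evI I B ∘ₗ ap g B)) (ModuleCat.ofHom (ap f B)))⟩
  choose e he using h
  let E : Y ⟶ coind I := mkHom (fun C =>
    { toFun := fun y => (show ∀ p, Fac I C p from fun p => ((e p.1 (mp Y p.2 y) : I p.1) : Fac I C p))
      map_add' := fun y y' => funext fun p => by
        show e p.1 (mp Y p.2 (y + y')) = e p.1 (mp Y p.2 y) + e p.1 (mp Y p.2 y')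
        rw [map_add, map_add]
      map_smul' := fun c y => funext fun p => by
        show e p.1 (mp Y p.2 (c • y)) = p.2.hom c • e p.1 (mp Y p.2 y)
        rw [mp_smul, map_smul] })
    (fun {B C} k y => funext fun p => congrArg (fun w => ((e p.1 w : I p.1) : Fac I C p)) (mp_comp k p.2 y))
  refine ⟨E, hom_ext fun C x => funext fun p => ?_⟩
  show e p.1 (mp Y p.2 (ap f C x)) = ((show ∀ p, Fac I C p from ap g C x) p : I p.1)
  rw [← nat_ap, he, nat_ap]
  show ((show ∀ p, Fac I C p from ap g C x) ⟨p.1, p.2 ≫ 𝟙 p.1⟩ : I p.1) = _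
  rw [Category.comp_id]

end Coinduced

theorem enoughInjectives_MVF : EnoughInjectives (Adeq.MVF A) := by
  refine ⟨fun F => ?_⟩
  haveI : ∀ B : Adeq.Alg A, EnoughInjectives (ModuleCat.{u + 1} (B : Type u)) := fun B =>
    ModuleCat.enoughInjectives.{u + 1} (B : Type u)
  let I : ∀ B : Adeq.Alg A, ModuleCat.{u + 1} (B : Type u) := fun B => Injective.under (F.obj (Adeq.pt B))
  let ι : ∀ B : Adeq.Alg A, F.obj (Adeq.pt B) →ₗ[(B : Type u)] I B := fun B => (Injective.ι (F.obj (Adeq.pt B))).hom
  let f : F ⟶ coind I := mkHom (fun C =>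
    { toFun := fun y => (show ∀ p, Fac I C p from fun p => ((ι p.1 (mp F p.2 y) : I p.1) : Fac I C p))
      map_add' := fun y y' => funext fun p => by
        show ι p.1 (mp F p.2 (y + y')) = ι p.1 (mp F p.2 y) + ι p.1 (mp F p.2 y')
        rw [map_add, map_add]
      map_smul' := fun c y => funext fun p => by
        show ι p.1 (mp F p.2 (c • y)) = p.2.hom c • ι p.1 (mp F p.2 y)
        rw [mp_smul, map_smul] })
    (fun {B C} k y => funext fun p => congrArg (fun w => ((ι p.1 w : I p.1) : Fac I C p)) (mp_comp k p.2 y))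
  haveI : Injective (coind I) := coind_injective fun B => inferInstanceAs (Injective (Injective.under _))
  haveI : Mono f := PresheafOfModules.mono_of_injective fun X x y h => by
    have h1 : ι X.unop.unop (mp F (𝟙 _) x) = ι X.unop.unop (mp F (𝟙 _) y) := congrArg (evI I X.unop.unop) h
    rw [mp_id, mp_id] at h1
    exact (ModuleCat.mono_iff_injective (Injective.ι (F.obj (Adeq.pt X.unop.unop)))).1 inferInstance h1
  exact ⟨{ J := coind I, f := f }⟩

end Groth.Agent.AdeqFound
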